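import Mathlib.GroupTheory.Index
import Mathlib.GroupTheory.Sylow
import Mathlib.GroupTheory.IndexNormal
import Mathlib.GroupTheory.GroupAction.Blocks

/-!
Small facts on finite groups used in the recognition of the Suzuki group.
-/

set_option autoImplicit false

namespace Cfsg.Agent.SuzRec12

open MulAction

/-- An element of prime order exceeding the index of a subgroup of a group containing it lies in it. -/
theorem mem_of_index_lt {G : Type*} [Group G] [Finite G] (C D : Subgroup G) (hDC : D ≤ C) {h : G}
    (hh : h ∈ C) {p : ℕ} (hp : p.Prime) (ho : h ^ p = 1) (hidx : Nat.card C < p * Nat.card D) : h ∈ D := by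
  by_contra hD
  have hinj : Function.Injective fun x : Fin p × D => (h ^ (x.1 : ℕ) * (x.2 : G)) := by
    rintro ⟨i, d⟩ ⟨j, d'⟩ he
    simp only at he
    wlog hij : (i : ℕ) ≤ j generalizing i j d d'
    · exact (this j d' i d he.symm (le_of_lt (not_le.1 hij))).symm
    obtain ⟨k, hk⟩ := Nat.exists_eq_add_of_le hij
    have hk' : h ^ k ∈ D := by
      rw [hk, pow_add, mul_assoc] at he
      have := mul_left_cancel he
      rw [show h ^ k = (d : G) * (d' : G)⁻¹ by rw [this, mul_inv_cancel_right]]
      exact mul_mem d.2 (inv_mem d'.2)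
    rcases Nat.eq_zero_or_pos k with rfl | hpos
    · have hij' : i = j := Fin.ext (by omega)
      subst hij'
      have : (d : G) = d' := mul_left_cancel he
      rw [Subtype.ext this]
    · exfalso
      refine hD ?_
      have hkp : k < p := by have := j.2; omega
      have hcop : Nat.Coprime k p :=
        ((Nat.Prime.coprime_iff_not_dvd hp).2 (Nat.not_dvd_of_pos_of_lt hpos hkp)).symm
      obtain ⟨m, hm⟩ := Nat.exists_mul_mod_eq_one_of_coprime hcop hp.one_lt
      have : (h ^ k) ^ m = h := by
        rw [← pow_mul, ← Nat.mod_add_div (k * m) p, hm.2, pow_add, pow_mul h p, ho]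
        simp
      exact this ▸ pow_mem hk' m
  have hle : Nat.card (Fin p × D) ≤ Nat.card C :=
    Nat.card_le_card_of_injective (fun x => (⟨_, mul_mem (pow_mem hh _) (hDC x.2.2)⟩ : C))
      fun a b hab => hinj (Subtype.ext_iff.1 hab)
  rw [Nat.card_prod, Nat.card_fin] at hle
  omega

/-- A group, as the set it acts on by conjugation. -/
structure CjPt (G : Type*) where
  /-- The element. -/
  elem : G

instance instMulActionCjPt (G : Type*) [Group G] : MulAction G (CjPt G) where
  smul g x := ⟨g * x.elem * g⁻¹⟩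
  one_smul x := show CjPt.mk ((1 : G) * x.elem * 1⁻¹) = x by simp
  mul_smul g h x := show CjPt.mk ((g * h) * x.elem * (g * h)⁻¹) = CjPt.mk (g * (h * x.elem * h⁻¹) * g⁻¹) by
    group

theorem cj_smul {G : Type*} [Group G] (g : G) (x : CjPt G) : g • x = ⟨g * x.elem * g⁻¹⟩ := rfl

instance instFiniteCjPt (G : Type*) [Finite G] : Finite (CjPt G) :=
  Finite.of_injective CjPt.elem fun a b h => by cases a; cases b; simp_all

/-- An element centralising `z` lies in `K` when the class of `z` in `K` is small. -/
theorem mem_of_small_orbit {G : Type*} [Group G] [Finite G] (K : Subgroup G) (z h : G)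
    (hcomm : h * z = z * h) {p : ℕ} (hp : p.Prime) (ho : h ^ p = 1) (S T : Finset G)
    (hS : ∀ k ∈ K, k * z * k⁻¹ ∈ S) (hT : ∀ t ∈ T, ∃ g : G, g * z * g⁻¹ = t)
    (hcard : S.card * Nat.card G < p * (T.card * Nat.card K)) : h ∈ K := by
  classical
  let zz : CjPt G := ⟨z⟩
  let C := stabilizer G zz
  have hC : (orbit G zz).ncard * Nat.card C = Nat.card G := by
    rw [← MulAction.index_stabilizer, Subgroup.index_mul_card]
  have hD : (orbit K zz).ncard * Nat.card (stabilizer K zz) = Nat.card K := by
    rw [← MulAction.index_stabilizer, Subgroup.index_mul_card]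
  have h1 : T.card ≤ (orbit G zz).ncard := by
    rw [← Set.ncard_coe_finset]
    refine Set.ncard_le_ncard_of_injOn CjPt.mk (fun t ht => ?_) (fun a _ b _ h => by simpa using h) (Set.toFinite _)
    obtain ⟨g, hg⟩ := hT t ht
    exact ⟨g, congrArg CjPt.mk hg⟩
  have h2 : (orbit K zz).ncard ≤ S.card := by
    rw [← Set.ncard_coe_finset]
    refine Set.ncard_le_ncard_of_injOn CjPt.elem ?_ (fun a _ b _ h => by cases a; cases b; simp_all) (Set.toFinite _)
    rintro _ ⟨k, rfl⟩
    exact hS k k.2
  have h3 : Nat.card (stabilizer K zz) = Nat.card (K ⊓ C : Subgroup G) := by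
    have e : stabilizer K zz = (K ⊓ C).subgroupOf K := by
      ext k
      rw [mem_stabilizer_iff, Subgroup.mem_subgroupOf, Subgroup.mem_inf]
      exact ⟨fun h => ⟨k.2, h⟩, fun h => h.2⟩
    rw [e, Nat.card_congr (Subgroup.subgroupOfEquivOfLe inf_le_left).toEquiv]
  refine (mem_of_index_lt C (K ⊓ C) inf_le_right (show h • zz = zz by
    rw [cj_smul, CjPt.mk.injEq, hcomm, mul_inv_cancel_right]) hp ho ?_).1
  rw [h3] at hD
  by_contra hle
  rw [not_lt] at hle
  have hTK : T.card * Nat.card K * p ≤ S.card * Nat.card G := by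
    calc T.card * Nat.card K * p = T.card * ((orbit K zz).ncard * Nat.card (K ⊓ C : Subgroup G)) * p := by
          rw [hD]
      _ = T.card * (orbit K zz).ncard * (p * Nat.card (K ⊓ C : Subgroup G)) := by ring
      _ ≤ (orbit G zz).ncard * S.card * Nat.card C := Nat.mul_le_mul (Nat.mul_le_mul h1 h2) hle
      _ = S.card * Nat.card G := by rw [← hC]; ring
  rw [mul_comm p] at hcard
  omega

/-- A `p`-subgroup lies, up to conjugation, in a subgroup of index prime to `p`. -/
theorem exists_conj_le {G : Type*} [Group G] [Finite G] {p : ℕ} [Fact p.Prime] (Q K : Subgroup G)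
    (hQ : IsPGroup p Q) (hK : ¬ p ∣ K.index) : ∃ g : G, ∀ q ∈ Q, g * q * g⁻¹ ∈ K := by
  have : Fintype G := Fintype.ofFinite G
  haveI : Finite (G ⧸ K) := inferInstance
  obtain ⟨x, hx⟩ := hQ.nonempty_fixed_point_of_prime_not_dvd_card (G ⧸ K) (by
    rwa [← Subgroup.index_eq_card])
  induction x using Quotient.inductionOn' with
  | h a =>
    refine ⟨a⁻¹, fun q hq => ?_⟩
    have h := hx ⟨q, hq⟩
    have h' : ((q * a : G) : G ⧸ K) = (a : G ⧸ K) := h
    have h'' := QuotientGroup.eq.1 h'.symm
    rw [inv_inv]
    rwa [← mul_assoc] at h''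

/-- A simple subgroup of index at most two in a group is its only subgroup of that order. -/
theorem eq_range_of_index_two {S A : Type*} [Group S] [Group A] [Finite A] [IsSimpleGroup S]
    (ι : S →* A) (hι : Function.Injective ι) (hS : 2 < Nat.card S)
    (G' : Subgroup A) (hG : Nat.card G' = Nat.card S) (hA : Nat.card A ≤ 2 * Nat.card S) :
    ι.range = G' := by
  have hr : Nat.card ι.range = Nat.card S := (Nat.card_congr (MonoidHom.ofInjective hι).toEquiv).symm
  have hidx : G'.index ≤ 2 := by
    have h := G'.index_mul_card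
    rw [hG] at h
    by_contra h2
    have : 3 * Nat.card S ≤ Nat.card A := h ▸ Nat.mul_le_mul (by omega) le_rfl
    omega
  have hpos : G'.index ≠ 0 := Subgroup.index_ne_zero_of_finite
  refine Subgroup.eq_of_le_of_card_ge ?_ (by rw [hr, hG])
  rcases (by omega : G'.index = 1 ∨ G'.index = 2) with h | h
  · rw [Subgroup.index_eq_one.1 h]; exact le_top
  · haveI hn : G'.Normal := Subgroup.normal_of_index_eq_two h
    rintro _ ⟨s, rfl⟩
    let f : S →* A ⧸ G' := (QuotientGroup.mk' G').comp ι
    rcases (inferInstance : f.ker.Normal).eq_bot_or_eq_top with hk | hk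
    · have := Nat.card_le_card_of_injective f ((MonoidHom.ker_eq_bot_iff f).1 hk)
      rw [← Subgroup.index_eq_card, h] at this
      omega
    · have hs : s ∈ f.ker := hk ▸ Subgroup.mem_top s
      exact (QuotientGroup.eq_one_iff (ι s)).1 hs

end Cfsg.Agent.SuzRec12
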