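import Cfsg.Prelude.Def_Chevalley
import Mathlib.FieldTheory.Finite.GaloisField

/-!
A Chevalley group depends on the field only up to isomorphism.
-/

set_option autoImplicit false

namespace Cfsg.Agent.SuzRec12

open Cfsg.Lie

theorem xMat_map' {F K : Type*} [Field F] [Field K] (D : ChevalleyDatum) (f : F →+* K)
    (r : Fin D.nroots) (t : F) : (D.xMat F r t).map f = D.xMat K r (f t) := by
  ext row col
  rcases col with i | s <;> rcases row with i' | u <;>
    simp only [ChevalleyDatum.xMat, Matrix.map_apply, Matrix.of_apply]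
  · split <;> simp
  · split <;> simp
  · split_ifs <;> simp
  · split_ifs <;> simp [map_list_sum, List.map_map, Function.comp_def]

theorem group_map_le' {F K : Type*} [Field F] [Field K] (D : ChevalleyDatum) (f : F →+* K) :
    (D.group F).map (Matrix.GeneralLinearGroup.map (n := D.Idx) f) ≤ D.group K := by
  rw [ChevalleyDatum.group, MonoidHom.map_closure, Subgroup.closure_le]
  rintro _ ⟨g, ⟨r, t, hg⟩, rfl⟩
  refine Subgroup.subset_closure ⟨r, f t, ?_⟩
  rw [← xMat_map']
  ext i j
  simp [hg]

/-- Transport along an isomorphism of fields. -/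
theorem group_iso {F K : Type*} [Field F] [Field K] (D : ChevalleyDatum) (f : F ≃+* K) :
    Nonempty (↥(D.group F) ≃* ↥(D.group K)) := by
  let m1 : ↥(D.group F) →* ↥(D.group K) :=
    MonoidHom.codRestrict ((Matrix.GeneralLinearGroup.map (n := D.Idx) f.toRingHom).comp (D.group F).subtype)
      (D.group K) fun g => group_map_le' D f.toRingHom ⟨g.1, g.2, rfl⟩
  let m2 : ↥(D.group K) →* ↥(D.group F) :=
    MonoidHom.codRestrict ((Matrix.GeneralLinearGroup.map (n := D.Idx) f.symm.toRingHom).comp (D.group K).subtype)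
      (D.group F) fun g => group_map_le' D f.symm.toRingHom ⟨g.1, g.2, rfl⟩
  refine ⟨MonoidHom.toMulEquiv m1 m2 ?_ ?_⟩
  · ext g i j
    simp [m1, m2]
  · ext g i j
    simp [m1, m2]

end Cfsg.Agent.SuzRec12
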