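import Cfsg.Agent.SuzRec12.Match
import Cfsg.Agent.SuzRec12.Field
import Cfsg.Agent.SporB.Suz.G24.Iso

/-!
A transitive group on 1782 points with point stabiliser of type G₂ over four elements and
suborbits of sizes 416 and 1365 is the Suzuki group.
-/

set_option autoImplicit false

namespace Cfsg.Agent.SuzRec12

open Cfsg.Agent.CosetEnum
open Cfsg.Agent.G24J2 (Hs)
open Cfsg.Agent.Recog71.SuzOut (col)

/-- The embedding into the automorphisms of the graph. -/
noncomputable def toAut : GS →* autGraph :=
  MonoidHom.codRestrict G24J2.φ autGraph fun g p q => by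
    show col (g • p : Pnt) (g • q : Pnt) = 2 ↔ _
    rw [col_smul]

theorem toAut_injective : Function.Injective toAut := fun g h e =>
  Suz.card_eq.2 (show G24J2.φ g = G24J2.φ h from congrArg Subtype.val e)

theorem recognise {Ω : Type*} [Finite Ω] (G : Subgroup (Equiv.Perm Ω))
    [MulAction.IsPretransitive G Ω] (a b c : Ω) (hΩ : Nat.card Ω = 1782)
    (e : MulAction.stabilizer G a ≃* Hs)
    (hb : (MulAction.orbit (MulAction.stabilizer G a) b).ncard = 416)
    (hc : (MulAction.orbit (MulAction.stabilizer G a) c).ncard = 1365) :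
    Nonempty (G ≃* GS) := by
  haveI := Suz.finite
  haveI := Suz.simple
  let ρ : Hs →* Equiv.Perm Ω :=
    (G.subtype.comp (MulAction.stabilizer G a).subtype).comp e.symm.toMonoidHom
  have horb : ∀ w : Ω, {v | ∃ h : Hs, ρ h w = v} = MulAction.orbit (MulAction.stabilizer G a) w := by
    intro w
    ext v
    constructor
    · rintro ⟨h, rfl⟩; exact ⟨e.symm h, rfl⟩
    · rintro ⟨g, rfl⟩
      refine ⟨e g, ?_⟩
      show ((e.symm (e g) : MulAction.stabilizer G a) : G).1 w = _
      rw [e.symm_apply_apply]
      rfl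
  let S : Setting G a b c :=
    { ρ := ρ
      inj := by
        intro g h hgh
        exact e.symm.injective (Subtype.ext (Subtype.ext hgh))
      mem := fun g => by
        constructor
        · rintro ⟨h, rfl⟩
          exact ⟨(e.symm h : G).2, (e.symm h).2⟩
        · rintro ⟨hg, hga⟩
          refine ⟨e ⟨⟨g, hg⟩, hga⟩, ?_⟩
          show ((e.symm (e ⟨⟨g, hg⟩, hga⟩) : MulAction.stabilizer G a) : G).1 = g
          rw [e.symm_apply_apply]
      trans := fun u => by
        obtain ⟨g, hg⟩ := MulAction.exists_smul_eq G a u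
        exact ⟨g, g.2, hg⟩
      card := hΩ
      orbB := by rw [horb, hb]
      orbC := by rw [horb, hc] }
  obtain ⟨ψ, hψ⟩ := S.exists_iso
  have hGc : Nat.card G = Nat.card GS := by
    have h := (MulAction.stabilizer G a).index_mul_card
    rw [MulAction.index_stabilizer, Nat.card_congr e.toEquiv, Hs_card,
      MulAction.orbit_eq_univ, Set.ncard_univ, hΩ] at h
    rw [Suz.card_eq.1]
    omega
  let conjψ : Equiv.Perm Ω ≃* Equiv.Perm Pnt := (Equiv.permCongrHom ψ.symm)
  have hmem : ∀ g : G, conjψ g ∈ autGraph := by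
    intro g p q
    have hp : ∀ r : Pnt, ψ (conjψ g r) = (g : Equiv.Perm Ω) (ψ r) := fun r => by
      simp [conjψ, Equiv.permCongrHom, Equiv.permCongr_apply]
    rw [← hψ, hp, hp, S.R_smul g.2, hψ]
  let f : G →* autGraph := MonoidHom.codRestrict (conjψ.toMonoidHom.comp G.subtype) autGraph hmem
  have hf : Function.Injective f := fun g h e' =>
    Subtype.ext (conjψ.injective (congrArg Subtype.val e'))
  have hfc : Nat.card f.range = Nat.card GS := by
    rw [← Nat.card_congr (MonoidHom.ofInjective hf).toEquiv, hGc]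
  have heq : toAut.range = f.range := by
    refine eq_range_of_index_two toAut toAut_injective ?_ f.range hfc ?_
    · rw [Suz.card_eq.1]; norm_num
    · rw [Suz.card_eq.1]; exact autGraph_card.trans (by norm_num)
  exact ⟨((MonoidHom.ofInjective hf).trans (MulEquiv.subgroupCongr heq.symm)).trans
    (MonoidHom.ofInjective toAut_injective).symm⟩

theorem stabilizer_iso (K : Type) [Field K] [Fintype K] (hK : Fintype.card K = 4) :
    Nonempty (↥(Cfsg.Lie.chevG2.group K) ≃* Hs) := by
  let f : K ≃+* CosetEnum.He.F4 := FiniteField.ringEquivOfCardEq (hK.trans CosetEnum.He.F4.card_eq.symm)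
  obtain ⟨e1⟩ := group_iso Cfsg.Lie.chevG2 f
  obtain ⟨e2⟩ := Suz.G24.iso
  exact ⟨e1.trans e2.symm⟩

end Cfsg.Agent.SuzRec12
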