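import Cfsg.Agent.SuzRec12.SubP

/-!
Conjugacy of a subgroup of index 1365 to one of the two parabolic subgroups.
-/

set_option autoImplicit false

namespace Cfsg.Agent.SuzRec12

open Cfsg.Agent.CosetEnum MulAction
open Cfsg.Agent.Recog71.SuzOut (ev)
open Cfsg.Agent.G24J2 (Hs)

/-- `K` is carried to `M` by an element of the point stabiliser. -/
def ConjTo (K M : Subgroup GS) : Prop := ∃ h ∈ Hs, ∀ k, k ∈ K ↔ h * k * h⁻¹ ∈ M

/-- The neighbour with the given number. -/
noncomputable def nbPt (k : ℕ) : ℕ := (nbWords.getD k (0, [])).1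

theorem nb_index (x : Pnt) (hx : op.getLab x = 3) : ∃ k < 20, nbPt k = (x : ℕ) := by
  have h := allRange_spec nb_all x (Nat.zero_le _) (lt_of_lt_of_eq x.2 (Nat.zero_add 1782).symm)
  rw [hx, Nat.beq_refl, Bool.not_true, Bool.false_or, List.any_eq_true] at h
  obtain ⟨p, hp, hpx⟩ := h
  obtain ⟨k, hk, rfl⟩ := List.getElem_of_mem hp
  refine ⟨k, lt_of_lt_of_eq hk nb_len.1, ?_⟩
  rw [nbPt, List.getD_eq_getElem _ _ hk]
  exact (Nat.eq_of_beq_eq_true hpx).symm

/-- An orbit of a subgroup with a big intersection with the stabiliser of the point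
lies on one line through it. -/
theorem orbit_cases (M : Subgroup GS) (hM : M ≤ Hs) (hc : Nat.card M = 184320) (S : Subgroup GS)
    (hSM : S ≤ M) (hSc : Nat.card S = 4096) (hSq : ∀ g ∈ S, g • qpt = qpt) :
    M ≤ PK ∨ ∃ j < 5, orbit M qpt = lset (linesP.getD j ([], [])).1 := by
  classical
  haveI := Suz.finite
  have hSP : S ≤ PK := fun g hg => ⟨hM (hSM hg), hSq g hg⟩
  -- the size of the orbit
  have hO : (orbit M qpt).ncard ≤ 45 := by
    have h1 := (stabilizer M qpt).index_mul_card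
    rw [index_stabilizer, hc] at h1
    have h2 : 4096 ≤ Nat.card (stabilizer M qpt) := by
      rw [← hSc]
      exact Nat.card_le_card_of_injective
        (fun g : S => (⟨⟨(g : GS), hSM g.2⟩, hSq g g.2⟩ : stabilizer M qpt))
        fun a b h => Subtype.ext (congrArg (fun z : stabilizer M qpt => ((z : M) : GS)) h)
    by_contra hlt
    have : 46 * 4096 ≤ 184320 := h1 ▸ Nat.mul_le_mul (by omega) h2
    omega
  have hstable : ∀ x ∈ orbit M qpt, orbit S x ⊆ orbit M qpt := by
    rintro x ⟨m, rfl⟩ _ ⟨s, rfl⟩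
    exact ⟨⟨(s : GS), hSM s.2⟩ * m, mul_smul (s : GS) (m : GS) qpt⟩
  have hlab : ∀ x ∈ orbit M qpt, x ≠ qpt → op.getLab x = 3 ∧ 4 ≤ (orbit S x).ncard := by
    intro x hx hne
    have hC : Suz.Rep.orb.getLab x = 1 := by
      obtain ⟨m, rfl⟩ := hx
      exact (orbit_qpt _).1 ⟨m, hM m.2, rfl⟩
    have hle : (orbit S x).ncard ≤ 45 := (Set.ncard_le_ncard (hstable x hx) (Set.toFinite _)).trans hO
    rcases (lab_point x).2.1.1 hC with h | h | h | h
    · exact absurd (Fin.ext ((lab_point x).2.2.2.2.2.2.1 h)) hne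
    · have := sylow_orbit hSP hSc x (by norm_num) h (s := 180) (m := 4) (by decide) (by decide)
      omega
    · have := sylow_orbit hSP hSc x (by norm_num) h (s := 9216) (m := 1024) (by decide) (by decide)
      exact ⟨h, by omega⟩
    · have := sylow_orbit hSP hSc x (by norm_num) h (s := 576) (m := 64) (by decide) (by decide)
      omega
  by_cases hall : ∀ x ∈ orbit M qpt, x = qpt
  · exact Or.inl fun g hg => ⟨hM hg, hall _ ⟨⟨g, hg⟩, rfl⟩⟩
  right
  push Not at hall
  obtain ⟨x, hx, hxq⟩ := hall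
  obtain ⟨k, hk, hkx⟩ := nb_index x (hlab x hx hxq).1
  refine ⟨k / 4, by omega, ?_⟩
  have hnb := allRange_spec nb_ok k (Nat.zero_le _) (by omega)
  simp only [nbPoint, Bool.and_eq_true] at hnb
  obtain ⟨⟨⟨⟨hok, -⟩, hrun⟩, hline⟩, hself⟩ := hnb
  set W := (nbWords.getD k (0, [])).2 with hW
  have hWx : (ev W)⁻¹ • x = qpt := Fin.ext (by
    rw [ev_smul hok, ← hkx]; exact Nat.eq_of_beq_eq_true hrun)
  obtain ⟨-, hlen, hqL, -, -⟩ := line_spec (j := k / 4) (by omega)
  have hsub : orbit M qpt ⊆ lset (linesP.getD (k / 4) ([], [])).1 := by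
    intro y hy
    by_cases hyq : y = qpt
    · rwa [hyq]
    by_cases hyx : y = x
    · rw [hyx]
      show (x : ℕ) ∈ nbLine k
      obtain ⟨z, hz, hze⟩ := List.any_eq_true.mp hself
      rw [← hkx]
      show (nbWords.getD k (0, [])).1 ∈ _
      rwa [Nat.eq_of_beq_eq_true hze]
    obtain ⟨m, hm⟩ := hy
    obtain ⟨n, hn⟩ := hx
    have hm' : (m : GS) • qpt = y := hm
    have hn' : (n : GS) • qpt = x := hn
    -- move `x` to the point inside `M`
    have hlab2 : op.getLab (((n : GS)⁻¹ • y) : Pnt) = 3 := by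
      refine (hlab _ ⟨n⁻¹ * m, ?_⟩ fun h => hyx ?_).1
      · show ((n : GS)⁻¹ * (m : GS)) • qpt = _
        rw [mul_smul, hm']
      · rw [← hn', ← h, smul_inv_smul]
    have hnH : (n : GS) ∈ Hs := hM n.2
    have hp : (ev W)⁻¹ * (n : GS) ∈ PK := by
      refine mem_PK.2 ⟨mul_mem (inv_mem (ev_mem_Hs hok)) hnH, ?_⟩
      rw [mul_smul, hn']
      exact hWx
    have hlab4 : op.getLab (((ev W)⁻¹ • y) : Pnt) = 3 := by
      have hlab3 := label_PK _ hlab2 _ hp
      rw [mul_smul, smul_inv_smul] at hlab3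
      exact hlab3
    rw [ev_smul hok] at hlab4
    have hu := allRange_spec hline (y : ℕ) (Nat.zero_le _)
      (lt_of_lt_of_eq (Fin.isLt _) (Nat.zero_add 1782).symm)
    rw [(hlab _ ⟨m, hm⟩ hyq).1, hlab4, Nat.beq_refl, Bool.and_self, Bool.not_true, Bool.false_or,
      List.any_eq_true] at hu
    obtain ⟨z, hz, hze⟩ := hu
    show (y : ℕ) ∈ nbLine k
    rwa [Nat.eq_of_beq_eq_true hze]
  refine Set.eq_of_subset_of_ncard_le hsub ?_ (Set.toFinite _)
  refine lset_ncard.trans (hlen.trans_le ?_)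
  have h4 := (hlab x hx hxq).2
  have hq : qpt ∉ orbit S x := by
    rintro ⟨s, hs⟩
    exact hxq (by
      have h1 : (s : GS) • x = qpt := hs
      exact (MulAction.injective (s : GS)) (h1.trans (hSq s s.2).symm))
  have := Set.ncard_le_ncard (Set.insert_subset (mem_orbit_self qpt) (hstable x hx)) (Set.toFinite _)
  rw [Set.ncard_insert_of_notMem hq (Set.toFinite _)] at this
  omega

theorem conj_parabolic {K : Subgroup GS} (hK : K ≤ Hs) (hc : Nat.card K = 184320) :
    ConjTo K PK ∨ ConjTo K LK := by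
  classical
  haveI := Suz.finite
  haveI : Fact (Nat.Prime 2) := ⟨Nat.prime_two⟩
  obtain ⟨S0, hS0⟩ := Sylow.exists_subgroup_card_pow_prime (G := K) 2 (n := 12) (by rw [hc]; norm_num)
  let S1 : Subgroup Hs := S0.map (Subgroup.inclusion hK)
  have hS1 : IsPGroup 2 S1 := (IsPGroup.of_card hS0).map _
  have hidx : ¬ 2 ∣ (stabilizer Hs qpt).index := by
    have h := (PK.subgroupOf Hs).index_mul_card
    rw [card_subgroupOf (show PK ≤ Hs from inf_le_left), PK_card, Hs_card] at h
    have e : stabilizer Hs qpt = PK.subgroupOf Hs := Subgroup.ext fun g =>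
      ⟨fun h => ⟨g.2, h⟩, fun h => h.2⟩
    rw [e]
    omega
  obtain ⟨g, hg⟩ := exists_conj_le S1 (stabilizer Hs qpt) hS1 hidx
  let c : GS →* GS := (MulAut.conj (g : GS)).toMonoidHom
  have hcinj : Function.Injective c := (MulAut.conj (g : GS)).injective
  let M : Subgroup GS := K.map c
  let S : Subgroup GS := (S0.map K.subtype).map c
  have memM : ∀ k, k ∈ M ↔ (g : GS)⁻¹ * k * g ∈ K := by
    intro k
    rw [Subgroup.mem_map]
    constructor
    · rintro ⟨m, hm, rfl⟩
      simpa [c, MulAut.conj_apply, mul_assoc] using hm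
    · exact fun hk => ⟨_, hk, by simp [c, MulAut.conj_apply, mul_assoc]⟩
  have hM : M ≤ Hs := fun k hk => by
    have := mul_mem (mul_mem g.2 (hK ((memM k).1 hk))) (inv_mem g.2)
    simpa [mul_assoc] using this
  have hMc : Nat.card M = 184320 := by
    rw [show Nat.card M = Nat.card K from Subgroup.card_map_of_injective hcinj, hc]
  have hSc : Nat.card S = 4096 := by
    rw [show Nat.card S = Nat.card (S0.map K.subtype) from Subgroup.card_map_of_injective hcinj,
      Subgroup.card_map_of_injective K.subtype_injective, hS0]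
    norm_num
  have hSM : S ≤ M := Subgroup.map_mono (by rintro _ ⟨s, -, rfl⟩; exact s.2)
  have hSq : ∀ k ∈ S, k • qpt = qpt := by
    rintro _ ⟨_, ⟨s, hs, rfl⟩, rfl⟩
    exact hg _ ⟨s, hs, rfl⟩
  have finish : ∀ (N : Subgroup GS) (d : GS), d ∈ Hs → Nat.card N ≤ 184320 →
      (∀ k ∈ M, d * k * d⁻¹ ∈ N) → ConjTo K N := by
    intro N d hd hN hle
    have hMN : M.map (MulAut.conj d).toMonoidHom = N := by
      refine Subgroup.eq_of_le_of_card_ge ?_ ?_
      · rintro _ ⟨k, hk, rfl⟩
        simpa [MulAut.conj_apply] using hle k hk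
      · rwa [show Nat.card (M.map (MulAut.conj d).toMonoidHom) = Nat.card M from
          Subgroup.card_map_of_injective (MulAut.conj d).injective, hMc]
    refine ⟨d * g, mul_mem hd g.2, fun k => ?_⟩
    rw [← hMN, Subgroup.mem_map]
    constructor
    · intro hk
      refine ⟨(g : GS) * k * (g : GS)⁻¹, (memM _).2 (by simpa [mul_assoc] using hk), ?_⟩
      simp [MulAut.conj_apply, mul_assoc]
    · rintro ⟨m, hm, hme⟩
      simp only [MulEquiv.coe_toMonoidHom, MulAut.conj_apply] at hme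
      have : k = (g : GS)⁻¹ * m * g := by
        have h := congrArg (fun z => (d * (g : GS))⁻¹ * z * (d * (g : GS))) hme
        simp only [mul_assoc, mul_inv_rev, inv_mul_cancel_left, inv_mul_cancel, mul_one] at h
        rw [← h]
        simp [mul_assoc]
      rw [this]
      exact (memM m).1 hm
  rcases orbit_cases M hM hMc S hSM hSc hSq with h | ⟨j, hj, hO⟩
  · exact Or.inl (finish PK 1 (one_mem _) PK_card.le fun k hk => by simpa using h hk)
  · obtain ⟨hok, -, -, -, hline⟩ := line_spec hj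
    refine Or.inr (finish LK (ev (linesP.getD j ([], [])).2)⁻¹ (inv_mem (ev_mem_Hs hok)) LK_card
      fun k hk => ⟨mul_mem (mul_mem (inv_mem (ev_mem_Hs hok)) (hM hk))
        (inv_mem (inv_mem (ev_mem_Hs hok))), fun x => ?_⟩)
    rw [inv_inv, mul_smul, mul_smul, hline, ← hO]
    have h2 : (k • (ev (linesP.getD j ([], [])).2 • x)) ∈ orbit M qpt ↔
        (ev (linesP.getD j ([], [])).2 • x) ∈ orbit M qpt := by
      constructor
      · rintro ⟨m, hm⟩
        refine ⟨(⟨k, hk⟩ : M)⁻¹ * m, ?_⟩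
        show ((k : GS)⁻¹ * (m : GS)) • qpt = _
        rw [mul_smul, show (m : GS) • qpt = _ from hm, inv_smul_smul]
      · rintro ⟨m, hm⟩
        refine ⟨(⟨k, hk⟩ : M) * m, ?_⟩
        show ((k : GS) * (m : GS)) • qpt = _
        rw [mul_smul, show (m : GS) • qpt = _ from hm]
    rw [h2, hO, ← hline, inv_smul_smul]

end Cfsg.Agent.SuzRec12
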