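import Cfsg.Agent.SuzRec12.SubJ
import Cfsg.Agent.SuzRec12.ConjP
import Mathlib.Combinatorics.Enumerative.DoubleCounting
import Mathlib.GroupTheory.GroupAction.Blocks

/-!
A transitive group with a point stabiliser isomorphic to that of the Suzuki group: the graph
given by its orbit of size 416.
-/

set_option autoImplicit false

namespace Cfsg.Agent.SuzRec12

open Cfsg.Agent.CosetEnum
open Cfsg.Agent.G24J2 (Hs)

variable {Ω : Type*} [Finite Ω]

/-- The data of the recognition problem, with the stabiliser given by the subgroup of the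
presented group. -/
structure Setting (G : Subgroup (Equiv.Perm Ω)) (a b c : Ω) where
  /-- The embedding of the stabiliser. -/
  ρ : Hs →* Equiv.Perm Ω
  inj : Function.Injective ρ
  mem : ∀ g : Equiv.Perm Ω, g ∈ ρ.range ↔ g ∈ G ∧ g a = a
  trans : ∀ u : Ω, ∃ g ∈ G, g a = u
  card : Nat.card Ω = 1782
  orbB : {w | ∃ h : Hs, ρ h b = w}.ncard = 416
  orbC : {w | ∃ h : Hs, ρ h c = w}.ncard = 1365

namespace Setting

variable {G : Subgroup (Equiv.Perm Ω)} {a b c : Ω} (S : Setting G a b c)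

theorem rho_mem (h : Hs) : S.ρ h ∈ G := ((S.mem _).1 ⟨h, rfl⟩).1

theorem rho_a (h : Hs) : S.ρ h a = a := ((S.mem _).1 ⟨h, rfl⟩).2

theorem rho_one (x : Ω) : S.ρ 1 x = x := by rw [map_one]; rfl

theorem rho_mul (g h : Hs) (x : Ω) : S.ρ (g * h) x = S.ρ g (S.ρ h x) := by rw [map_mul]; rfl

theorem rho_inv (g : Hs) (x : Ω) : S.ρ g⁻¹ (S.ρ g x) = x := by rw [← rho_mul, inv_mul_cancel, rho_one]

/-- The orbit of size 416. -/
def B : Set Ω := {w | ∃ h : Hs, S.ρ h b = w}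

/-- The orbit of size 1365. -/
def C : Set Ω := {w | ∃ h : Hs, S.ρ h c = w}

theorem mem_B_rho {w : Ω} (h : Hs) : S.ρ h w ∈ S.B ↔ w ∈ S.B := by
  constructor
  · rintro ⟨g, hg⟩; exact ⟨h⁻¹ * g, by rw [rho_mul, hg, rho_inv]⟩
  · rintro ⟨g, rfl⟩; exact ⟨h * g, rho_mul S h g b⟩

theorem mem_C_rho {w : Ω} (h : Hs) : S.ρ h w ∈ S.C ↔ w ∈ S.C := by
  constructor
  · rintro ⟨g, hg⟩; exact ⟨h⁻¹ * g, by rw [rho_mul, hg, rho_inv]⟩
  · rintro ⟨g, rfl⟩; exact ⟨h * g, rho_mul S h g c⟩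

theorem a_not_B : a ∉ S.B := by
  rintro ⟨h, hh⟩
  have e : {w | ∃ h : Hs, S.ρ h b = w} = {a} := by
    have hb : b = a := by
      have := congrArg (S.ρ h⁻¹) hh
      rwa [rho_inv, rho_a] at this
    ext w
    simp [hb, rho_a, eq_comm]
  have := S.orbB
  rw [e, Set.ncard_singleton] at this
  omega

theorem a_not_C : a ∉ S.C := by
  rintro ⟨h, hh⟩
  have e : {w | ∃ h : Hs, S.ρ h c = w} = {a} := by
    have hb : c = a := by
      have := congrArg (S.ρ h⁻¹) hh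
      rwa [rho_inv, rho_a] at this
    ext w
    simp [hb, rho_a, eq_comm]
  have := S.orbC
  rw [e, Set.ncard_singleton] at this
  omega

theorem disj {w : Ω} (hB : w ∈ S.B) : w ∉ S.C := by
  intro hC
  obtain ⟨g, rfl⟩ := hB
  have hb : b ∈ S.C := (S.mem_C_rho g).1 hC
  obtain ⟨h, hb'⟩ := hb
  have hb'' : S.ρ h⁻¹ b = c := by
    have := S.rho_inv h c
    rwa [hb'] at this
  have e : {w | ∃ k : Hs, S.ρ k b = w} = {w | ∃ k : Hs, S.ρ k c = w} := by
    ext w
    exact ⟨fun ⟨k, hk⟩ => ⟨k * h, by rw [rho_mul, hb', hk]⟩,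
      fun ⟨k, hk⟩ => ⟨k * h⁻¹, by rw [rho_mul, hb'', hk]⟩⟩
  have := S.orbB
  rw [e, S.orbC] at this
  omega

theorem cover (w : Ω) : w = a ∨ w ∈ S.B ∨ w ∈ S.C := by
  have hu : insert a (S.B ∪ S.C) = Set.univ := by
    refine Set.eq_of_subset_of_ncard_le (Set.subset_univ _) ?_ (Set.toFinite _)
    rw [Set.ncard_univ, S.card, Set.ncard_insert_of_notMem (by simp [a_not_B, a_not_C]) (Set.toFinite _),
      Set.ncard_union_eq (Set.disjoint_left.2 fun _ h => S.disj h) (Set.toFinite _) (Set.toFinite _),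
      show S.B.ncard = 416 from S.orbB, show S.C.ncard = 1365 from S.orbC]
  have := Set.eq_univ_iff_forall.1 hu w
  simpa using this

/-- The graph. -/
def R (u v : Ω) : Prop :=
  ∃ g ∈ G, g a = u ∧ ∃ h : Hs, g (S.ρ h b) = v

theorem R_a (v : Ω) : S.R a v ↔ v ∈ S.B := by
  constructor
  · rintro ⟨g, hg, hga, h, rfl⟩
    obtain ⟨k, rfl⟩ := (S.mem g).2 ⟨hg, hga⟩
    exact ⟨k * h, rho_mul S k h b⟩
  · rintro ⟨h, rfl⟩
    exact ⟨1, one_mem _, rfl, h, rfl⟩

theorem R_smul {g : Equiv.Perm Ω} (hg : g ∈ G) (u v : Ω) : S.R (g u) (g v) ↔ S.R u v := by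
  constructor
  · rintro ⟨k, hk, hku, h, hv⟩
    refine ⟨g⁻¹ * k, mul_mem (inv_mem hg) hk, ?_, h, ?_⟩
    · rw [Equiv.Perm.mul_apply, hku, Equiv.Perm.coe_inv, Equiv.symm_apply_apply]
    · rw [Equiv.Perm.mul_apply, hv, Equiv.Perm.coe_inv, Equiv.symm_apply_apply]
  · rintro ⟨k, hk, rfl, h, rfl⟩
    exact ⟨g * k, mul_mem hg hk, rfl, h, rfl⟩

theorem R_iff {g : Equiv.Perm Ω} (hg : g ∈ G) {u : Ω} (hu : g a = u) (v : Ω) :
    S.R u v ↔ g⁻¹ v ∈ S.B := by
  have := S.R_smul hg a (g⁻¹ v)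
  rw [hu, Equiv.Perm.coe_inv, Equiv.apply_symm_apply] at this
  rw [this, Equiv.Perm.coe_inv, R_a]

theorem orbit_mul_card (w : Ω) :
    {v | ∃ h : Hs, S.ρ h w = v}.ncard * Nat.card ↥(G ⊓ MulAction.stabilizer (Equiv.Perm Ω) a ⊓
      MulAction.stabilizer (Equiv.Perm Ω) w : Subgroup (Equiv.Perm Ω)) = 251596800 := by
  letI : MulAction Hs Ω := MulAction.compHom Ω S.ρ
  have h := (MulAction.stabilizer Hs w).index_mul_card
  rw [MulAction.index_stabilizer, Hs_card] at h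
  have e : (MulAction.stabilizer Hs w).map S.ρ = G ⊓ MulAction.stabilizer (Equiv.Perm Ω) a ⊓
      MulAction.stabilizer (Equiv.Perm Ω) w := by
    ext g
    rw [Subgroup.mem_map]
    constructor
    · rintro ⟨k, hk, rfl⟩
      exact ⟨⟨S.rho_mem k, S.rho_a k⟩, hk⟩
    · rintro ⟨hg, hw⟩
      obtain ⟨k, rfl⟩ := (S.mem g).2 hg
      exact ⟨k, hw, rfl⟩
  rw [← Subgroup.card_map_of_injective S.inj, e] at h
  exact h

theorem R_symm {u v : Ω} (h : S.R u v) : S.R v u := by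
  obtain ⟨g, hg, hgu⟩ := S.trans u
  have hv : g⁻¹ v ∈ S.B := (S.R_iff hg hgu v).1 h
  suffices hh : ∀ w ∈ S.B, S.R w a by
    have := (S.R_smul hg _ _).2 (hh _ hv)
    rwa [hgu, Equiv.Perm.coe_inv, Equiv.apply_symm_apply] at this
  intro w hw
  obtain ⟨k, hk, hkw⟩ := S.trans w
  rw [S.R_iff hk hkw]
  rcases S.cover (k⁻¹ a) with h' | h' | h'
  · exfalso
    have : w = a := by
      rw [Equiv.Perm.coe_inv] at h'
      have := congrArg k h'
      rw [Equiv.apply_symm_apply, hkw] at this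
      exact this.symm
    exact S.a_not_B (this ▸ hw)
  · exact h'
  · exfalso
    have h1 := S.orbit_mul_card w
    have h2 := S.orbit_mul_card (k⁻¹ a)
    have o1 : {v | ∃ h : Hs, S.ρ h w = v}.ncard = 416 := by
      obtain ⟨m, rfl⟩ := hw
      rw [← S.orbB]
      congr 1
      ext v
      exact ⟨fun ⟨p, hp⟩ => ⟨p * m, by rw [rho_mul, hp]⟩,
        fun ⟨p, hp⟩ => ⟨p * m⁻¹, by rw [rho_mul, rho_inv, hp]⟩⟩
    have o2 : {v | ∃ h : Hs, S.ρ h (k⁻¹ a) = v}.ncard = 1365 := by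
      obtain ⟨m, hm⟩ := h'
      rw [← S.orbC, ← hm]
      congr 1
      ext v
      exact ⟨fun ⟨p, hp⟩ => ⟨p * m, by rw [rho_mul, hp]⟩,
        fun ⟨p, hp⟩ => ⟨p * m⁻¹, by rw [rho_mul, rho_inv, hp]⟩⟩
    rw [o1] at h1
    rw [o2] at h2
    have e : (G ⊓ MulAction.stabilizer (Equiv.Perm Ω) a ⊓ MulAction.stabilizer (Equiv.Perm Ω) (k⁻¹ a)).map
        (MulAut.conj k).toMonoidHom =
        G ⊓ MulAction.stabilizer (Equiv.Perm Ω) a ⊓ MulAction.stabilizer (Equiv.Perm Ω) w := by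
      ext g
      rw [Subgroup.mem_map]
      simp only [Subgroup.mem_inf, MulAction.mem_stabilizer_iff, Equiv.Perm.smul_def,
        MulEquiv.coe_toMonoidHom, MulAut.conj_apply]
      constructor
      · rintro ⟨x, ⟨⟨hx, hxa⟩, hxw⟩, rfl⟩
        refine ⟨⟨mul_mem (mul_mem hk hx) (inv_mem hk), ?_⟩, ?_⟩
        · rw [Equiv.Perm.mul_apply, Equiv.Perm.mul_apply, hxw, Equiv.Perm.coe_inv, Equiv.apply_symm_apply]
        · rw [Equiv.Perm.mul_apply, Equiv.Perm.mul_apply, Equiv.Perm.coe_inv, ← hkw,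
            Equiv.symm_apply_apply, hxa]
      · rintro ⟨⟨hg', hga⟩, hgw⟩
        refine ⟨k⁻¹ * g * k, ⟨⟨mul_mem (mul_mem (inv_mem hk) hg') hk, ?_⟩, ?_⟩, by group⟩
        · rw [Equiv.Perm.mul_apply, Equiv.Perm.mul_apply, hkw, hgw, ← hkw, Equiv.Perm.coe_inv,
            Equiv.symm_apply_apply]
        · rw [Equiv.Perm.mul_apply, Equiv.Perm.mul_apply, Equiv.Perm.coe_inv, Equiv.apply_symm_apply, hga]
    rw [← e, Subgroup.card_map_of_injective (MulAut.conj k).injective] at h1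
    omega

theorem R_comm (u v : Ω) : S.R u v ↔ S.R v u := ⟨S.R_symm, S.R_symm⟩

theorem R_irrefl (u : Ω) : ¬ S.R u u := by
  intro h
  obtain ⟨g, hg, rfl⟩ := S.trans u
  exact S.a_not_B ((S.R_a a).1 ((S.R_smul hg a a).1 h))

theorem nbhd_card (u : Ω) : {v | S.R u v}.ncard = 416 := by
  obtain ⟨g, hg, hgu⟩ := S.trans u
  have e : {v | S.R u v} = g '' S.B := by
    ext v
    rw [Set.mem_ofPred_eq, S.R_iff hg hgu, Equiv.Perm.coe_inv]
    constructor
    · exact fun h => ⟨_, h, Equiv.apply_symm_apply _ _⟩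
    · rintro ⟨w, hw, rfl⟩; rwa [Equiv.symm_apply_apply]
  rw [e, Set.ncard_image_of_injective _ g.injective]
  exact S.orbB

theorem double_count {u v : Ω} (hu : u ∈ S.B) (hv : v ∈ S.C) :
    416 * {w | w ∈ S.C ∧ S.R u w}.ncard = 1365 * {w | w ∈ S.B ∧ S.R v w}.ncard := by
  classical
  haveI := Fintype.ofFinite Ω
  let sB : Finset Ω := Finset.univ.filter (· ∈ S.B)
  let sC : Finset Ω := Finset.univ.filter (· ∈ S.C)
  have hB : sB.card = 416 := by
    rw [← Set.ncard_coe_finset]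
    refine (congrArg Set.ncard ?_).trans S.orbB
    ext w; simp [sB, B]
  have hC : sC.card = 1365 := by
    rw [← Set.ncard_coe_finset]
    refine (congrArg Set.ncard ?_).trans S.orbC
    ext w; simp [sC, C]
  have cnt1 : ∀ x ∈ sB, (sC.bipartiteAbove (S.R) x).card = {w | w ∈ S.C ∧ S.R u w}.ncard := by
    intro x hx
    rw [Finset.mem_filter] at hx
    obtain ⟨g, rfl⟩ := hu
    obtain ⟨g', rfl⟩ := hx.2
    have e : ((sC.bipartiteAbove (S.R) (S.ρ g' b) : Finset Ω) : Set Ω) =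
        S.ρ (g' * g⁻¹) '' {w | w ∈ S.C ∧ S.R (S.ρ g b) w} := by
      ext w
      simp only [Finset.coe_bipartiteAbove, sC, Finset.mem_filter, Finset.mem_univ, true_and,
        Set.mem_image, Set.mem_ofPred_eq]
      have hxe : S.ρ g' b = S.ρ (g' * g⁻¹) (S.ρ g b) := by rw [rho_mul, rho_inv]
      constructor
      · rintro ⟨hw, hr⟩
        refine ⟨S.ρ (g' * g⁻¹)⁻¹ w, ⟨(S.mem_C_rho _).2 hw, ?_⟩, ?_⟩
        · rw [← S.R_smul (S.rho_mem (g' * g⁻¹)), ← hxe, ← rho_mul, mul_inv_cancel, rho_one]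
          exact hr
        · rw [← rho_mul, mul_inv_cancel, rho_one]
      · rintro ⟨z, ⟨hz, hr⟩, rfl⟩
        refine ⟨(S.mem_C_rho _).2 hz, ?_⟩
        rw [hxe]
        exact (S.R_smul (S.rho_mem _) _ _).2 hr
    rw [← Set.ncard_coe_finset, e, Set.ncard_image_of_injective _ (Equiv.injective _)]
  have cnt2 : ∀ y ∈ sC, (sB.bipartiteBelow (S.R) y).card = {w | w ∈ S.B ∧ S.R v w}.ncard := by
    intro y hy
    rw [Finset.mem_filter] at hy
    obtain ⟨g, rfl⟩ := hv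
    obtain ⟨g', rfl⟩ := hy.2
    have e : ((sB.bipartiteBelow (S.R) (S.ρ g' c) : Finset Ω) : Set Ω) =
        S.ρ (g' * g⁻¹) '' {w | w ∈ S.B ∧ S.R (S.ρ g c) w} := by
      ext w
      simp only [Finset.coe_bipartiteBelow, sB, Finset.mem_filter, Finset.mem_univ, true_and,
        Set.mem_image, Set.mem_ofPred_eq]
      have hxe : S.ρ g' c = S.ρ (g' * g⁻¹) (S.ρ g c) := by rw [rho_mul, rho_inv]
      constructor
      · rintro ⟨hw, hr⟩
        refine ⟨S.ρ (g' * g⁻¹)⁻¹ w, ⟨(S.mem_B_rho _).2 hw, ?_⟩, ?_⟩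
        · rw [← S.R_smul (S.rho_mem (g' * g⁻¹)), ← hxe, ← rho_mul, mul_inv_cancel, rho_one]
          exact S.R_symm hr
        · rw [← rho_mul, mul_inv_cancel, rho_one]
      · rintro ⟨z, ⟨hz, hr⟩, rfl⟩
        refine ⟨(S.mem_B_rho _).2 hz, S.R_symm ?_⟩
        rw [hxe]
        exact (S.R_smul (S.rho_mem _) _ _).2 hr
    rw [← Set.ncard_coe_finset, e, Set.ncard_image_of_injective _ (Equiv.injective _)]
  have h := Finset.sum_card_bipartiteAbove_eq_sum_card_bipartiteBelow (S.R) (s := sB) (t := sC)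
  rw [Finset.sum_congr rfl cnt1, Finset.sum_congr rfl cnt2, Finset.sum_const, Finset.sum_const,
    hB, hC, smul_eq_mul, smul_eq_mul] at h
  exact h

/-- The neighbourhood of a point of the first orbit is not inside it. -/
theorem not_closed : ∃ u ∈ S.B, ∃ w ∈ S.C, S.R u w := by
  by_contra hne
  push Not at hne
  let D : Set Ω := insert a S.B
  have hD : D.ncard = 417 := by
    rw [Set.ncard_insert_of_notMem S.a_not_B (Set.toFinite _), show S.B.ncard = 416 from S.orbB]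
  have hcl : ∀ u ∈ D, ∀ v, S.R u v → v ∈ D := by
    intro u hu v hr
    rcases hu with rfl | hu
    · exact Or.inr ((S.R_a v).1 hr)
    · rcases S.cover v with h | h | h
      exacts [Or.inl h, Or.inr h, absurd hr (hne u hu v h)]
  have hsat : ∀ u ∈ D, {v | S.R u v} = D \ {u} := by
    intro u hu
    refine Set.eq_of_subset_of_ncard_le (fun v hv => ⟨hcl u hu v hv, fun h => ?_⟩) ?_ (Set.toFinite _)
    · rw [Set.mem_singleton_iff] at h
      exact S.R_irrefl u (h ▸ hv)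
    · rw [S.nbhd_card, Set.ncard_sdiff (Set.singleton_subset_iff.2 hu) (Set.toFinite _), hD, Set.ncard_singleton]
  haveI : MulAction.IsPretransitive G Ω := ⟨fun x y => by
    obtain ⟨g, hg, hgx⟩ := S.trans x
    obtain ⟨k, hk, hky⟩ := S.trans y
    refine ⟨⟨k * g⁻¹, mul_mem hk (inv_mem hg)⟩, ?_⟩
    show (k * g⁻¹) x = y
    rw [Equiv.Perm.mul_apply, ← hgx, Equiv.Perm.coe_inv, Equiv.symm_apply_apply, hky]⟩
  have key : ∀ g : G, ∀ u ∈ D, (g : Equiv.Perm Ω) u ∈ D → ∀ v ∈ D, (g : Equiv.Perm Ω) v ∈ D := by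
    intro g u hu hgu v hv
    by_cases hvu : v = u
    · rwa [hvu]
    have h1 : S.R u v := by
      have : v ∈ {v | S.R u v} := by rw [hsat u hu]; exact ⟨hv, hvu⟩
      exact this
    exact hcl _ hgu _ ((S.R_smul g.2 u v).2 h1)
  have hblock : MulAction.IsBlock G D := by
    rw [MulAction.isBlock_iff_smul_eq_or_disjoint]
    intro g
    rw [or_iff_not_imp_right, Set.not_disjoint_iff]
    rintro ⟨x, ⟨u, hu, rfl⟩, hx⟩
    refine Set.eq_of_subset_of_ncard_le ?_ ?_ (Set.toFinite _)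
    · rintro _ ⟨v, hv, rfl⟩
      exact key g u hu hx v hv
    · rw [← Set.image_smul, Set.ncard_image_of_injective _ (MulAction.injective g)]
  have := hblock.ncard_dvd_card ⟨a, Or.inl rfl⟩
  rw [hD, S.card] at this
  norm_num at this

end Setting

end Cfsg.Agent.SuzRec12
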