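import Cfsg.Agent.SuzRec12.CheckA
import Mathlib.GroupTheory.IndexNormal

/-!
The automorphism group of the rank three graph of the Suzuki group has order at most twice
that of the group.
-/

set_option autoImplicit false

namespace Cfsg.Agent.SuzRec12

open Cfsg.Agent.CosetEnum
open Cfsg.Agent.Recog71 (Colour.ap)
open Cfsg.Agent.Recog71.SuzOut (col)

/-- The points. -/
abbrev Pt : Type := Fin Suz.Rep.tbl.n

theorem pt_lt (i : Pt) : (i : ℕ) < 1782 := i.2

theorem ap_path (p : Pt) : ∃ g : Suz.pres.Gp, Colour.ap Suz.rep Suz.nodup g p = 0 := by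
  have h := allRange_spec Recog71.SuzOut.reach_ok p (Nat.zero_le _) (by have := pt_lt p; omega)
  obtain ⟨h1, h2⟩ := Recog71.Colour.reach_spec _ _ _ h
  exact ⟨_, (Recog71.Colour.ap_word h1 p.2).trans h2⟩

theorem col_base (q : ℕ) : col 0 q = Suz.Rep.orb.getLab q := rfl

theorem lab_lt (q : ℕ) (hq : q < 1782) :
    Suz.Rep.orb.getLab q < 3 ∧ (Suz.Rep.orb.getLab q = 0 ↔ q = 0) := by
  have h := allRange_spec lab_small q (Nat.zero_le _) (by omega)
  simp only [Bool.and_eq_true, beq_iff_eq] at h
  refine ⟨Nat.le_of_ble_eq_true h.1, fun h0 => ?_, fun h0 => ?_⟩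
  · rw [h0, Nat.beq_refl] at h
    exact Nat.eq_of_beq_eq_true h.2.symm
  · subst h0
    have h2 := h.2
    rw [Nat.beq_refl] at h2
    exact Nat.eq_of_beq_eq_true h2

theorem col_reduce (p q : Pt) : ∃ g : Suz.pres.Gp, Colour.ap Suz.rep Suz.nodup g p = 0 ∧
    col p q = Suz.Rep.orb.getLab (Colour.ap Suz.rep Suz.nodup g q) := by
  obtain ⟨g, hg⟩ := ap_path p
  refine ⟨g, hg, ?_⟩
  rw [← Recog71.SuzOut.colouring_ok.inv g p q p.2 q.2, hg, col_base]

theorem col_lt (p q : Pt) : col p q < 3 := by
  obtain ⟨g, -, hc⟩ := col_reduce p q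
  exact hc ▸ (lab_lt _ (Recog71.Colour.ap_lt g q.2)).1

theorem col_zero_iff (p q : Pt) : col p q = 0 ↔ p = q := by
  obtain ⟨g, hg, hc⟩ := col_reduce p q
  rw [hc, (lab_lt _ (Recog71.Colour.ap_lt g q.2)).2]
  constructor
  · intro h
    apply Fin.ext
    have h1 := congrArg (Colour.ap Suz.rep Suz.nodup g⁻¹) (h.trans hg.symm)
    rw [Recog71.Colour.ap_inv_apply g q.2, Recog71.Colour.ap_inv_apply g p.2] at h1
    exact h1.symm
  · rintro rfl; exact hg

theorem col_symm (p q : Pt) : col p q = col q p := by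
  obtain ⟨g, hg, hc⟩ := col_reduce p q
  rw [hc, ← Recog71.SuzOut.colouring_ok.inv g q p q.2 p.2, hg]
  have hlt := Recog71.Colour.ap_lt (R := Suz.rep) (hnd := Suz.nodup) g q.2
  have h := allRange_spec sym_ok _ (Nat.zero_le _)
    (show Colour.ap Suz.rep Suz.nodup g q < 0 + 1782 by rw [Nat.zero_add]; exact hlt)
  rw [Nat.eq_of_beq_eq_true h, col_base]

/-- The automorphism group of the graph. -/
noncomputable def autGraph : Subgroup (Equiv.Perm Pt) where
  carrier := {σ | ∀ p q : Pt, col (σ p) (σ q) = 2 ↔ col p q = 2}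
  mul_mem' := fun {s t} hs ht p q => (hs (t p) (t q)).trans (ht p q)
  one_mem' := fun _ _ => Iff.rfl
  inv_mem' := fun {s} hs p q => by
    have h := hs (s⁻¹ p) (s⁻¹ q)
    simp only [Equiv.Perm.coe_inv, Equiv.apply_symm_apply] at h
    exact h.symm

theorem col_two_iff_one {p q p' q' : Pt} (h0 : p = q ↔ p' = q') (h2 : col p q = 2 ↔ col p' q' = 2) :
    col p q = col p' q' := by
  have a1 := col_lt p q
  have a2 := col_lt p' q'
  rcases (by omega : col p q = 0 ∨ col p q = 1 ∨ col p q = 2) with h | h | h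
  · rw [h, (col_zero_iff _ _).2 (h0.1 ((col_zero_iff _ _).1 h))]
  · rw [h]
    have b0 : col p' q' ≠ 0 := fun hb => by
      have := (col_zero_iff _ _).2 (h0.2 ((col_zero_iff _ _).1 hb)); omega
    have b2 : col p' q' ≠ 2 := fun hb => by have := h2.2 hb; omega
    omega
  · rw [h, h2.1 h]

theorem aut_col {σ : Equiv.Perm Pt} (hσ : σ ∈ autGraph) (p q : Pt) : col (σ p) (σ q) = col p q :=
  col_two_iff_one σ.injective.eq_iff (hσ p q)

theorem kf_cons (b : ℕ) (l : List ℕ) (i : ℕ) : kf (b :: l) i = col b i + 4 * kf l i := rfl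

theorem kf_congr {i i' : ℕ} : ∀ {l : List ℕ}, (∀ b ∈ l, col b i = col b i') → kf l i = kf l i'
  | [], _ => rfl
  | b :: l, h => by
    rw [kf_cons, kf_cons, h b List.mem_cons_self,
      kf_congr fun c hc => h c (List.mem_cons_of_mem _ hc)]

theorem kf_take : ∀ (l : List ℕ) (j : ℕ) (i : ℕ), (∀ b ∈ l, col b i < 4) → j ≤ l.length →
    kf (l.take j) i = kf l i % 4 ^ j
  | _, 0, i, _, _ => by simp [kf, Nat.mod_one]
  | [], j + 1, _, _, h => absurd h (by simp)
  | b :: l, j + 1, i, h, hj => by
    have hb := h b List.mem_cons_self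
    rw [List.take_succ_cons, kf_cons, kf_cons,
      kf_take l j i (fun c hc => h c (List.mem_cons_of_mem _ hc)) (by simpa using hj), pow_succ',
      Nat.mod_mul, Nat.add_mul_mod_self_left, Nat.mod_eq_of_lt hb,
      Nat.add_mul_div_left _ _ (by norm_num : 0 < 4), Nat.div_eq_of_lt hb, Nat.zero_add]

theorem basis_lt : ∀ b ∈ basis, b < 1782 := by decide

theorem key_eq (i : Pt) : keys.get 64 i = kf basis i ∧ krank.get 16 i < 1782 ∧
    kpos.get 16 (krank.get 16 i) = i ∧ skeys.get 64 (krank.get 16 i) = keys.get 64 i := by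
  have hi := pt_lt i
  have h : keyPoint i = true := by
    rcases Nat.lt_or_ge (i : ℕ) 892 with h1 | h1
    · rcases Nat.lt_or_ge (i : ℕ) 446 with h2 | h2
      · exact allRange_spec keys_ok0 i (Nat.zero_le _) (by omega)
      · exact allRange_spec keys_ok1 i h2 (by omega)
    · rcases Nat.lt_or_ge (i : ℕ) 1338 with h2 | h2
      · exact allRange_spec keys_ok2 i h1 (by omega)
      · exact allRange_spec keys_ok3 i h2 (by omega)
  simp only [keyPoint, Bool.and_eq_true] at h
  exact ⟨Nat.eq_of_beq_eq_true h.1.1, Nat.le_of_ble_eq_true h.1.2, Nat.eq_of_beq_eq_true h.2,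
    Nat.eq_of_beq_eq_true (allRange_spec skeys_ok i (Nat.zero_le _) (by omega))⟩

theorem skeys_lt {a b : ℕ} (hab : a < b) (hb : b < 1782) : skeys.get 64 a < skeys.get 64 b := by
  induction b with
  | zero => omega
  | succ b ih =>
    have h : skeys.get 64 b < skeys.get 64 (b + 1) :=
      Nat.le_of_ble_eq_true (allRange_spec keys_sorted b (Nat.zero_le _) (by omega))
    rcases Nat.lt_or_ge a b with h' | h'
    · exact (ih h' (by omega)).trans h
    · rwa [show a = b by omega]

theorem col_basis_lt (i : Pt) : ∀ b ∈ basis, col b i < 4 := fun b hb => by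
  have := col_lt ⟨b, show b < 1782 from basis_lt b hb⟩ i
  simp only at this
  omega

theorem key_injective {i j : Pt} (h : keys.get 64 i = keys.get 64 j) : i = j := by
  obtain ⟨-, hi, hi1, hi2⟩ := key_eq i
  obtain ⟨-, hj, hj1, hj2⟩ := key_eq j
  have e : krank.get 16 i = krank.get 16 j := by
    by_contra hne
    rcases Nat.lt_or_gt_of_ne hne with h' | h'
    · have := skeys_lt h' hj; omega
    · have := skeys_lt h' hi; omega
  exact Fin.ext (hi1.symm.trans ((congrArg (kpos.get 16) e).trans hj1))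

/-- The pointwise stabiliser of an initial part of the base. -/
noncomputable def autFix (j : ℕ) : Subgroup (Equiv.Perm Pt) :=
  autGraph ⊓ fixingSubgroup (Equiv.Perm Pt) {p : Pt | (p : ℕ) ∈ basis.take j}

theorem mem_autFix {j : ℕ} {σ : Equiv.Perm Pt} :
    σ ∈ autFix j ↔ σ ∈ autGraph ∧ ∀ p : Pt, (p : ℕ) ∈ basis.take j → σ p = p := by
  simp [autFix, mem_fixingSubgroup_iff]

theorem kf_take_aut {j : ℕ} {σ : Equiv.Perm Pt} (hσ : σ ∈ autFix j) (hj : j ≤ 26) (i : Pt) :
    keys.get 64 (σ i) % 4 ^ j = keys.get 64 i % 4 ^ j := by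
  obtain ⟨h1, h2⟩ := mem_autFix.1 hσ
  rw [(key_eq (σ i)).1, (key_eq i).1, ← kf_take basis j (σ i) (col_basis_lt _) (by simpa [basis] using hj),
    ← kf_take basis j i (col_basis_lt _) (by simpa [basis] using hj)]
  refine kf_congr fun b hb => ?_
  let bp : Pt := ⟨b, show b < 1782 from basis_lt b (List.mem_of_mem_take hb)⟩
  show col bp (σ i) = col bp i
  conv_lhs => rw [← h2 bp hb]
  exact aut_col h1 bp i

theorem autFix_step {j : ℕ} (hj : j < 26) :
    Nat.card (autFix j) ≤ cands.getD j 0 * Nat.card (autFix (j + 1)) := by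
  have hb : basis.getD j 0 < 1782 := by
    rw [List.getD_eq_getElem _ _ (show j < basis.length from hj)]
    exact basis_lt _ (List.getElem_mem _)
  let b : Pt := ⟨basis.getD j 0, hb⟩
  have horb : (MulAction.orbit (autFix j) b).ncard ≤ cands.getD j 0 := by
    refine le_trans ?_ (Nat.le_of_ble_eq_true (allRange_spec cands_ok j (Nat.zero_le _) (by omega)))
    rw [candCount, ← ncard_fin_filter 1782]
    refine Set.ncard_le_ncard ?_
    rintro _ ⟨⟨σ, hσ⟩, rfl⟩
    show Nat.beq _ _ = true
    rw [Nat.beq_eq]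
    exact kf_take_aut hσ hj.le b
  have hst : MulAction.stabilizer (autFix j) b = (autFix (j + 1)).subgroupOf (autFix j) := by
    ext ⟨σ, hσ⟩
    obtain ⟨h1, h2⟩ := mem_autFix.1 hσ
    have htk : basis.take (j + 1) = basis.take j ++ [basis.getD j 0] := by
      rw [List.take_succ_eq_append_getElem (show j < basis.length from hj),
        List.getD_eq_getElem _ _ (show j < basis.length from hj)]
    rw [MulAction.mem_stabilizer_iff, Subgroup.mem_subgroupOf, mem_autFix, htk]
    show σ b = b ↔ _
    constructor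
    · refine fun h => ⟨h1, fun p hp => ?_⟩
      rcases List.mem_append.1 hp with hp | hp
      · exact h2 p hp
      · rwa [show p = b from Fin.ext (List.mem_singleton.1 hp)]
    · exact fun h => h.2 b (List.mem_append_right _ (List.mem_singleton.2 rfl))
  have hle : autFix (j + 1) ≤ autFix j := by
    intro σ hσ
    obtain ⟨h1, h2⟩ := mem_autFix.1 hσ
    exact mem_autFix.2 ⟨h1, fun p hp => h2 p
      (List.Sublist.subset (List.take_sublist_take_left (Nat.le_succ j)) hp)⟩
  rw [← (MulAction.stabilizer (autFix j) b).index_mul_card, MulAction.index_stabilizer, hst,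
    Nat.card_congr (Subgroup.subgroupOfEquivOfLe hle).toEquiv]
  exact Nat.mul_le_mul horb le_rfl

theorem autFix_last : autFix 26 = ⊥ := by
  rw [Subgroup.eq_bot_iff_forall]
  intro σ hσ
  refine Equiv.ext fun i => ?_
  have h := kf_take_aut hσ le_rfl i
  have hk : ∀ p : Pt, keys.get 64 p % 4 ^ 26 = keys.get 64 p := by
    intro p
    rw [(key_eq p).1]
    conv_lhs => rw [← kf_take basis 26 p (col_basis_lt _) (by simp [basis])]
    rw [show basis.take 26 = basis from List.take_of_length_le (by simp [basis])]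
  rw [hk, hk] at h
  exact key_injective h

theorem autGraph_card : Nat.card autGraph ≤ 896690995200 := by
  have h : ∀ m : ℕ, ∀ j, j + m = 26 → Nat.card (autFix j) ≤ ((cands.drop j).take m).prod := by
    intro m
    induction m with
    | zero =>
      intro j hj
      obtain rfl : j = 26 := by omega
      rw [autFix_last]
      simp
    | succ m ih =>
      intro j hj
      refine (autFix_step (by omega)).trans ?_
      have hlen : cands.length = 26 := rfl
      rw [List.drop_eq_getElem_cons (by omega : j < cands.length), List.take_succ_cons, List.prod_cons,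
        List.getD_eq_getElem _ _ (by omega : j < cands.length)]
      exact Nat.mul_le_mul le_rfl (ih (j + 1) (by omega))
  have h0 := h 26 0 rfl
  have he : autFix 0 = autGraph := by
    ext σ; simp [mem_autFix]
  rw [he] at h0
  exact h0.trans (by decide +kernel)

end Cfsg.Agent.SuzRec12
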