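import Cfsg.Agent.SuzRec12.DataA
import Cfsg.Agent.Recog71.SuzOutMain

/-!
Checks on the colouring of the 1782 points of the Suzuki group.
-/

set_option autoImplicit false
set_option maxRecDepth 100000

namespace Cfsg.Agent.SuzRec12

open Cfsg.Agent.CosetEnum
open Cfsg.Agent.Recog71.SuzOut (col)

/-- The key of a point relative to a list of points. -/
noncomputable def kf : List ℕ → ℕ → ℕ :=
  List.rec (motive := fun _ => ℕ → ℕ) (fun _ => 0) fun b _ ih i => Nat.add (col b i) (Nat.mul 4 (ih i))

/-- The key is the stored one, and the rank is its position. -/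
noncomputable def keyPoint (i : ℕ) : Bool :=
  Nat.beq (keys.get 64 i) (kf basis i) && Nat.blt (krank.get 16 i) 1782 &&
    Nat.beq (kpos.get 16 (krank.get 16 i)) i

theorem keys_ok0 : allRange keyPoint 0 446 = true := by decide +kernel

theorem keys_ok1 : allRange keyPoint 446 446 = true := by decide +kernel

theorem keys_ok2 : allRange keyPoint 892 446 = true := by decide +kernel

theorem keys_ok3 : allRange keyPoint 1338 444 = true := by decide +kernel

/-- The sorted key at the rank of a point is its key. -/
theorem skeys_ok : allRange (fun i => Nat.beq (skeys.get 64 (krank.get 16 i)) (keys.get 64 i)) 0 1782 = true := by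
  decide +kernel

theorem keys_sorted : allRange (fun i => Nat.blt (skeys.get 64 i) (skeys.get 64 (i + 1))) 0 1781 = true := by
  decide +kernel

/-- The number of points whose key agrees with that of the next base point. -/
noncomputable def candCount (j : ℕ) : ℕ :=
  countBelow (fun i => Nat.beq (Nat.mod (keys.get 64 i) (4 ^ j))
    (Nat.mod (keys.get 64 (basis.getD j 0)) (4 ^ j))) 1782

theorem cands_ok : allRange (fun j => Nat.ble (candCount j) (cands.getD j 0)) 0 26 = true := by
  decide +kernel

theorem sym_ok : allRange (fun i => Nat.beq (col i 0) (col 0 i)) 0 1782 = true := by decide +kernel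

theorem lab_small : allRange (fun i => Nat.blt (Suz.Rep.orb.getLab i) 3 &&
    (Nat.beq (Suz.Rep.orb.getLab i) 0 == Nat.beq i 0)) 0 1782 = true := by decide +kernel

end Cfsg.Agent.SuzRec12
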