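import Cfsg.Agent.SuzRec12.CheckB0
import Cfsg.Agent.SuzRec12.CheckB1
import Cfsg.Agent.SuzRec12.CheckB2
import Cfsg.Agent.SuzRec12.CheckB3

/-!
The remaining checks on the conjugates of an element of order three.
-/

set_option autoImplicit false
set_option maxRecDepth 100000

namespace Cfsg.Agent.SuzRec12

open Cfsg.Agent.CosetEnum

theorem ekey_ok : allRange eKeyPoint 0 4160 = true := by decide +kernel

theorem esorted_ok : allRange (fun i => Nat.blt (eSorted.get 64 i) (eSorted.get 64 (i + 1))) 0 4159 = true := by
  decide +kernel

theorem rootsJ_ok : rootsJ.all jPoint = true := by decide +kernel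

theorem rootsB_ok : rootsB.all bPoint = true := by decide +kernel

theorem rootsS_ok : rootsS.all sPoint = true := by decide +kernel

theorem q_ok : qCheck = true := by decide +kernel

theorem small_len : smallList.length = 30 := by decide +kernel

end Cfsg.Agent.SuzRec12
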