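import Cfsg.Agent.SuzRec12.DefsB

/-!
Checks on part 0 of the conjugates of an element of order three.
-/

set_option autoImplicit false
set_option maxRecDepth 100000

namespace Cfsg.Agent.SuzRec12

open Cfsg.Agent.CosetEnum

theorem img_ok0 : allRange imgPoint 0 520 = true := by decide +kernel

theorem step_ok0 : allRange stepPoint 0 520 = true := by decide +kernel

theorem par_ok0 : allRange parPoint 0 520 = true := by decide +kernel

end Cfsg.Agent.SuzRec12
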