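import Cfsg.Agent.SuzRec12.DataB
import Cfsg.Agent.SporB.Suz.Rep.Data

/-!
Definitions for the checks on the conjugates of an element of order three.
-/

set_option autoImplicit false
set_option maxRecDepth 100000

namespace Cfsg.Agent.SuzRec12

open Cfsg.Agent.CosetEnum

/-- A word from its code. -/
noncomputable def decode : ℕ → ℕ → List ℕ :=
  Nat.rec (motive := fun _ => ℕ → List ℕ) (fun _ => [])
    fun _ ih v => bif Nat.beq v 0 then [] else
      Nat.sub (Nat.land v 7) 1 :: ih (Nat.shiftRight v 3)

/-- The conjugating word of a class member. -/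
noncomputable def uW (i : ℕ) : List ℕ := decode 21 (uCode.get 64 i)

/-- The word of a class member. -/
noncomputable def zW (i : ℕ) : List ℕ := (uW i).reverse ++ zWord ++ uW i

/-- The word of a class member or of its inverse. -/
noncomputable def eW (e : ℕ) : List ℕ :=
  bif Nat.beq (Nat.land e 1) 0 then zW (Nat.shiftRight e 1) else (zW (Nat.shiftRight e 1)).reverse

/-- The base. -/
def bPts : List ℕ := [0, 1, 2, 160]

/-- A word acts as stored under the number `e`. -/
noncomputable def hasImg (W : List ℕ) (e : ℕ) : Bool :=
  allRange (fun k => Nat.beq (Suz.Rep.tbl.run W (bPts.getD k 0)) (imgData.get 16 (Nat.add (Nat.mul 4 e) k))) 0 4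

/-- Letters of the point stabiliser only. -/
noncomputable def okH (W : List ℕ) : Bool := W.all fun l => Nat.blt l 6

/-- The stored images of a class member and of its inverse are right. -/
noncomputable def imgPoint (i : ℕ) : Bool :=
  okH (zW i) && okH (uW i) && hasImg (zW i) (Nat.mul 2 i) && hasImg (zW i).reverse (Nat.add (Nat.mul 2 i) 1)

/-- The class is closed under conjugation by the letters. -/
noncomputable def stepPoint (i : ℕ) : Bool :=
  allRange (fun l => Nat.blt (stepData.get 16 (Nat.add (Nat.mul 6 i) l)) 4160 &&
    hasImg (l :: (zW i ++ [l])) (stepData.get 16 (Nat.add (Nat.mul 6 i) l))) 0 6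

/-- The code of the images of an element. -/
noncomputable def eKey (e : ℕ) : ℕ :=
  Nat.add (imgData.get 16 (Nat.add (Nat.mul 4 e) 1))
    (Nat.add (Nat.mul 2048 (imgData.get 16 (Nat.add (Nat.mul 4 e) 2)))
      (Nat.mul 4194304 (imgData.get 16 (Nat.add (Nat.mul 4 e) 3))))

/-- The rank of an element has it as position. -/
noncomputable def eKeyPoint (e : ℕ) : Bool :=
  Nat.blt (eRank.get 16 e) 4160 && Nat.beq (eSorted.get 64 (eRank.get 16 e)) (eKey e) &&
    Nat.beq (ePos.get 16 (eRank.get 16 e)) e

/-- The neighbour in the orbit of the normaliser. -/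
noncomputable def parA (i : ℕ) : ℕ := Nat.land (orbPar.get 32 i) 4095

/-- The normalising word used. -/
noncomputable def parH (i : ℕ) : List ℕ := nWords.getD (Nat.land (Nat.shiftRight (orbPar.get 32 i) 12) 3) []

/-- The sign of the step. -/
noncomputable def parS (i : ℕ) : ℕ := Nat.land (Nat.shiftRight (orbPar.get 32 i) 14) 1

/-- The depth in the orbit. -/
noncomputable def depth (i : ℕ) : ℕ := Nat.shiftRight (orbPar.get 32 i) 15

/-- A member of the list of small classes. -/
noncomputable def isSmall (i : ℕ) : Bool := smallList.any (Nat.beq i)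

/-- A member of one of the lists of roots. -/
noncomputable def isBigRoot (i : ℕ) : Bool :=
  rootsB.any (fun r => Nat.beq i r.1) || rootsJ.any (fun r => Nat.beq i r.1)

/-- The step in the orbit of the normaliser. -/
noncomputable def parPoint (i : ℕ) : Bool :=
  bif Nat.beq (orbPar.get 32 i) 0 then
    bif isSmall i then rootsS.any (fun r => Nat.beq i r.1) else isBigRoot i
  else
    Nat.blt (parA i) 2080 && Nat.blt (depth (parA i)) (depth i) &&
      (isSmall i || !(isSmall (parA i))) &&
      hasImg ((parH i).reverse ++ zW (parA i) ++ parH i) (Nat.add (Nat.mul 2 i) (parS i))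

/-- Substitution of words for letters. -/
def expand (gs : List (List ℕ)) (w : List ℕ) : List ℕ := w.flatMap fun k => gs.getD k []

/-- Two words act alike on the base. -/
noncomputable def sameB (U V : List ℕ) : Bool :=
  bPts.all fun p => Nat.beq (Suz.Rep.tbl.run U p) (Suz.Rep.tbl.run V p)

/-- The conjugate of the element of order seven. -/
noncomputable def hW (r : ℕ) : List ℕ := (uW r).reverse ++ hWord ++ uW r

/-- A root generating the Hall-Janko group. -/
noncomputable def jPoint (r : ℕ × List (List ℕ)) : Bool :=
  Nat.blt r.1 2080 && allRange (fun l => (r.2.getD l []).all (fun k => Nat.blt k 3) &&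
    sameB (expand [xWord, yWord, zW r.1] (r.2.getD l [])) [l]) 0 5

/-- A root giving an element of order thirteen. -/
noncomputable def bPoint (r : ℕ × List ℕ) : Bool :=
  Nat.blt r.1 2080 && r.2.all (fun k => Nat.blt k 3) &&
    sameB (repWord (expand [xWord, yWord, zW r.1] r.2) 13) [] &&
    !(sameB (expand [xWord, yWord, zW r.1] r.2) [])

/-- A small root. -/
noncomputable def sPoint (r : ℕ × List ℕ) : Bool :=
  Nat.blt r.1 2080 && r.2.all (fun k => Nat.blt k 4) && okH hWord &&
    sameB (repWord (hW r.1) 7) [] && !(sameB (hW r.1) []) &&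
    sameB (hW r.1 ++ zW r.1) (zW r.1 ++ hW r.1) &&
    sameB (repWord (expand [xWord, yWord, zW r.1, hW r.1] r.2) 13) [] &&
    !(sameB (expand [xWord, yWord, zW r.1, hW r.1] r.2) [])

/-- The power product of the two generators. -/
def qPow (e : ℕ × ℕ) : List ℕ := repWord xWord e.1 ++ repWord yWord e.2

/-- The facts on the two generators of the five-subgroup and its normaliser. -/
noncomputable def qCheck : Bool :=
  okH xWord && okH yWord && okH zWord && nWords.all okH && nWords.all (fun W => W.all fun l => Nat.blt l 6) &&
    sameB (xWord ++ yWord) (yWord ++ xWord) && sameB (repWord xWord 5) [] && sameB (repWord yWord 5) [] &&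
    sameB (repWord zWord 3) [] && Nat.beq (uCode.get 64 0) 0 &&
    allRange (fun j =>
      sameB ((nWords.getD j []).reverse ++ xWord ++ nWords.getD j []) (qPow (nExps.getD j ((0, 0), (0, 0))).1) &&
      sameB ((nWords.getD j []).reverse ++ yWord ++ nWords.getD j []) (qPow (nExps.getD j ((0, 0), (0, 0))).2)) 0 4

end Cfsg.Agent.SuzRec12
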