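import Cfsg.Agent.SuzRec12.DataC
import Cfsg.Agent.SuzRec12.DefsB
import Cfsg.Agent.G24J2.Main
import Cfsg.Agent.Recog71.SuzOutMain

/-!
Checks on the orbits of the parabolic subgroups.
-/

set_option autoImplicit false
set_option maxRecDepth 100000

namespace Cfsg.Agent.SuzRec12

open Cfsg.Agent.CosetEnum
open Cfsg.Agent.G24J2 (okData)
open Cfsg.Agent.Recog71.SuzOut (col)

theorem op_ok : okData op opWords opRoots opSizes = true := by decide +kernel

theorem ol_ok : okData ol olWords olRoots olSizes = true := by decide +kernel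

theorem orb_ok : okData Suz.Rep.orb Suz.Rep.ws Suz.Rep.roots [1, 1365, 416] = true := by decide +kernel

theorem o1_ok : okData o1 o1Words o1Roots o1Sizes = true := by decide +kernel

theorem o1_words : o1Words = o1Sub.map (expand opWords) := by decide +kernel

theorem o1_fix : o1Words.all (fun W => okH W && Nat.beq (Suz.Rep.tbl.run W 2) 2) = true := by decide +kernel

theorem o1_size : allRange (fun c => !(Nat.beq (o1.getLab yP) c) || Nat.beq (o1Sizes.getD c 0) 180) 0 o1Roots.length = true
    ∧ Nat.blt (o1.getLab yP) o1Roots.length = true := by decide +kernel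

theorem op_words : opWords.all (fun W => okH W && Nat.beq (Suz.Rep.tbl.run W qP) qP) = true := by
  decide +kernel

theorem ol_words : olWords.all (fun W => okH W &&
    line0.all fun x => line0.any (Nat.beq (Suz.Rep.tbl.run W x))) = true := by decide +kernel

/-- How the three kinds of labels of a point compare. -/
noncomputable def labPoint (i : ℕ) : Bool :=
  (Nat.beq (Suz.Rep.orb.getLab i) 2 == (Nat.beq (op.getLab i) 5 || Nat.beq (op.getLab i) 6)) &&
  (Nat.beq (Suz.Rep.orb.getLab i) 1 == (Nat.beq (op.getLab i) 1 || Nat.beq (op.getLab i) 2 ||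
    Nat.beq (op.getLab i) 3 || Nat.beq (op.getLab i) 4)) &&
  (Nat.beq (col qP i) 2 == (Nat.beq (op.getLab i) 4 || Nat.beq (op.getLab i) 6)) &&
  (Nat.beq (Suz.Rep.orb.getLab i) 2 == (Nat.beq (ol.getLab i) 4 || Nat.beq (ol.getLab i) 5)) &&
  Nat.blt (op.getLab i) 7 && Nat.blt (ol.getLab i) 6 &&
  (Nat.beq (op.getLab i) 1 == Nat.beq i qP) && (Nat.beq (op.getLab i) 0 == Nat.beq i 0)

theorem labels_ok : allRange labPoint 0 1782 = true := by decide +kernel

theorem colB_ok : allRange (fun i => !(Nat.beq (Suz.Rep.orb.getLab i) 2) ||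
    (Nat.beq (col 995 i) 2 == Nat.beq (G24J2.oh.getLab i) 1)) 0 1782 = true := by decide +kernel

/-- The line of a neighbour in the list. -/
noncomputable def nbLine (k : ℕ) : List ℕ := (linesP.getD (k / 4) ([], [])).1

/-- A neighbour and its word. -/
noncomputable def nbPoint (k : ℕ) : Bool :=
  okH (nbWords.getD k (0, [])).2 && Nat.blt (nbWords.getD k (0, [])).1 1782 &&
    Nat.beq (Suz.Rep.tbl.run (nbWords.getD k (0, [])).2 (nbWords.getD k (0, [])).1) qP &&
    allRange (fun u => !(Nat.beq (op.getLab u) 3 &&
      Nat.beq (op.getLab (Suz.Rep.tbl.run (nbWords.getD k (0, [])).2 u)) 3) || (nbLine k).any (Nat.beq u)) 0 1782 &&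
    (nbLine k).any (Nat.beq (nbWords.getD k (0, [])).1)

theorem nb_ok : allRange nbPoint 0 20 = true := by decide +kernel

theorem nb_all : allRange (fun i => !(Nat.beq (op.getLab i) 3) || nbWords.any fun p => Nat.beq i p.1) 0 1782 = true := by
  decide +kernel

/-- A line and the word taking it to the fixed one. -/
noncomputable def linePoint (p : List ℕ × List ℕ) : Bool :=
  okH p.2 && Nat.beq p.1.length 5 && p.1.all (fun x => Nat.blt x 1782) && p.1.any (Nat.beq qP) &&
    Nat.beq (Suz.Rep.tbl.run p.2 qP) qP &&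
    p.1.all (fun x => line0.any (Nat.beq (Suz.Rep.tbl.run p.2 x))) &&
    line0.all (fun x => p.1.any fun y => Nat.beq (Suz.Rep.tbl.run p.2 y) x)

theorem lines_ok : linesP.all linePoint = true := by decide +kernel

theorem nb_len : nbWords.length = 20 ∧ linesP.length = 5 ∧ line0.length = 5 := by decide +kernel

theorem lines_distinct : allRange (fun j => allRange (fun k => Nat.beq j k ||
    (linesP.getD j ([], [])).1.any fun x => !((linesP.getD k ([], [])).1.any (Nat.beq x))) 0 5) 0 5 = true := by
  decide +kernel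

end Cfsg.Agent.SuzRec12
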