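import Cfsg.Agent.SuzRec12.Words

/-!
Invariant sets are unions of orbits, and their sizes are sums of orbit sizes.
-/

set_option autoImplicit false

namespace Cfsg.Agent.SuzRec12

open Cfsg.Agent.CosetEnum
open Cfsg.Agent.G24J2 (okData wordsSub conn_of_ok size_of_ok ncard_union_classes)

theorem invariant_union {O : OrbitData} {ws : List (List ℕ)} {roots sizes : List ℕ}
    (h : okData O ws roots sizes = true) (S : Set (Fin Suz.Rep.tbl.n)) (L : Finset ℕ)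
    (hL : ∀ c ∈ L, c < roots.length) (hS : ∀ x ∈ S, O.getLab x ∈ L)
    (hinv : ∀ k ∈ wordsSub ws, ∀ x ∈ S, k • x ∈ S) :
    ∃ A ∈ L.powerset, S.ncard = ∑ c ∈ A, sizes.getD c 0 ∧
      ∀ x : Fin Suz.Rep.tbl.n, x ∈ S ↔ O.getLab x ∈ A := by
  classical
  refine ⟨L.filter fun c => ∃ x ∈ S, O.getLab x = c, Finset.mem_powerset.2 (Finset.filter_subset _ _), ?_⟩
  have key : ∀ x : Fin Suz.Rep.tbl.n, x ∈ S ↔ O.getLab x ∈ L.filter fun c => ∃ x ∈ S, O.getLab x = c := by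
    intro x
    rw [Finset.mem_filter]
    refine ⟨fun hx => ⟨hS x hx, x, hx, rfl⟩, ?_⟩
    rintro ⟨hc, y, hy, hyx⟩
    obtain ⟨r, -, hr⟩ := conn_of_ok h (hL _ hc)
    obtain ⟨k, hk, hkx⟩ := (hr x).1 rfl
    obtain ⟨j, hj, hjy⟩ := (hr y).1 hyx
    have := hinv (k * j⁻¹) (mul_mem hk (inv_mem hj)) y hy
    rwa [mul_smul, ← hjy, inv_smul_smul, hkx] at this
  refine ⟨?_, key⟩
  refine (congrArg Set.ncard (show S = {x : Fin Suz.Rep.tbl.n | O.getLab x ∈ L.filter fun c => ∃ x ∈ S, O.getLab x = c} from Set.ext key)).trans ?_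
  exact ncard_union_classes (fun i : Fin Suz.Rep.tbl.n => O.getLab (i : ℕ)) (fun c => sizes.getD c 0) _ fun c hc =>
    size_of_ok h (hL c (Finset.filter_subset _ _ hc))

end Cfsg.Agent.SuzRec12
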