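import Cfsg.Agent.SuzRec12.Theta
import Cfsg.Agent.SuzRec12.Classes
import Cfsg.Agent.SuzRec12.Aut

/-!
The graph of the transitive group is the graph of the Suzuki group.
-/

set_option autoImplicit false

namespace Cfsg.Agent.SuzRec12

open Cfsg.Agent.CosetEnum
open Cfsg.Agent.G24J2 (Hs wordsSub p0)
open Cfsg.Agent.Recog71.SuzOut (col)

theorem lab_two_iff (p : Pnt) : Suz.Rep.orb.getLab p = 2 ↔ ∃ g : Hs, (g : GS) • p0 = p := by
  rw [(G24J2.lab_spec p).1, ← G24J2.orbit_Hs]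
  exact ⟨fun ⟨g, hg, h⟩ => ⟨⟨g, hg⟩, h⟩, fun ⟨g, h⟩ => ⟨g, g.2, h⟩⟩

theorem lab_one_iff (p : Pnt) : Suz.Rep.orb.getLab p = 1 ↔ ∃ g : Hs, (g : GS) • qpt = p := by
  rw [← orbit_qpt]
  exact ⟨fun ⟨g, hg, h⟩ => ⟨⟨g, hg⟩, h⟩, fun ⟨g, h⟩ => ⟨g, g.2, h⟩⟩

/-- The base point. -/
noncomputable def zpt : Pnt := ⟨0, by decide⟩

theorem Hs_fix (g : Hs) : (g : GS) • zpt = zpt := by
  have h : (g : GS) ∈ Suz.rep.stab Suz.nodup := Suz.stab_eq.1 ▸ g.2
  exact (InvPres.Rep.mem_stab Suz.rep Suz.nodup).1 h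

theorem lab_smul (g : Hs) (p : Pnt) :
    Suz.Rep.orb.getLab ((g : GS) • p : Pnt) = Suz.Rep.orb.getLab p := by
  have hlt := (lab_lt p p.2)
  have h0 : ∀ q : Pnt, Suz.Rep.orb.getLab q = 0 ↔ q = zpt := fun q => by
    rw [(lab_lt q q.2).2]
    exact ⟨fun h => Fin.ext h, fun h => congrArg Fin.val h⟩
  rcases (by omega : Suz.Rep.orb.getLab p = 0 ∨ Suz.Rep.orb.getLab p = 1 ∨ Suz.Rep.orb.getLab p = 2) with h | h | h
  · rw [h, h0, (h0 p).1 h, Hs_fix]
  · rw [h, lab_one_iff]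
    obtain ⟨k, rfl⟩ := (lab_one_iff p).1 h
    exact ⟨g * k, mul_smul (g : GS) (k : GS) qpt⟩
  · rw [h, lab_two_iff]
    obtain ⟨k, rfl⟩ := (lab_two_iff p).1 h
    exact ⟨g * k, mul_smul (g : GS) (k : GS) p0⟩

theorem col_smul (g : GS) (x y : Pnt) : col (g • x : Pnt) (g • y : Pnt) = col x y := by
  have h := Recog71.SuzOut.colouring_ok.inv g⁻¹ x y x.2 y.2
  rwa [ap_eq_smul, ap_eq_smul, inv_inv] at h

theorem J_iff (g : Hs) : (g : GS) ∈ G24J2.J ↔ (g : GS) • p0 = p0 := by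
  have h := SetLike.ext_iff.1 G24J2.J'_eq g
  exact h.symm

theorem PK_iff (g : Hs) : (g : GS) ∈ PK ↔ (g : GS) • qpt = qpt := ⟨fun h => h.2, fun h => ⟨g.2, h⟩⟩

theorem wordsSub_oh : wordsSub G24J2.ohWords ≤ Hs := G24J2.J_eq ▸ G24J2.J_le

namespace Setting

variable {Ω : Type*} [Finite Ω] {G : Subgroup (Equiv.Perm Ω)} {a b c : Ω} (S : Setting G a b c)

theorem stab_nbhd_B {w : Ω} (g : Hs) (hg : S.ρ g w = w) (v : Ω) : S.R w (S.ρ g v) ↔ S.R w v := by
  conv_lhs => rw [← hg, S.R_smul (S.rho_mem g)]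

/-- The bijection of points. -/
noncomputable def psi (b' c' : Ω) (p : Pnt) : Ω :=
  if Suz.Rep.orb.getLab p = 2 then S.theta p0 b' p
  else if Suz.Rep.orb.getLab p = 1 then S.theta qpt c' p else a

/-- The two stabilisers are as in the Suzuki group and the graph agrees. -/
theorem exists_iso : ∃ ψ : Pnt ≃ Ω, ∀ p q : Pnt, S.R (ψ p) (ψ q) ↔ col p q = 2 := by
  classical
  haveI := Suz.finite
  obtain ⟨hB, hhB⟩ := S.point_of_conj b (M := G24J2.J) (conjJ_of_card (S.stabK_le b) (by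
    have hc := S.stabK_card b
    rw [show {v | ∃ h : Hs, S.ρ h b = v}.ncard = 416 from S.orbB] at hc
    omega))
  set b' := S.ρ hB b with hb'
  have hsB : S.SameStab p0 b' := fun g => (J_iff g).symm.trans (hhB g)
  have hb'B : b' ∈ S.B := ⟨hB, rfl⟩
  have thB : ∀ p : Pnt, Suz.Rep.orb.getLab p = 2 → S.theta p0 b' p ∈ S.B := by
    intro p hp
    obtain ⟨g, rfl⟩ := (lab_two_iff p).1 hp
    rw [S.theta_base hsB]
    exact (S.mem_B_rho g).2 hb'B
  have injB : Set.InjOn (S.theta p0 b') {p : Pnt | Suz.Rep.orb.getLab p = 2} :=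
    fun p hp q hq h => S.theta_inj hsB ((lab_two_iff p).1 hp) ((lab_two_iff q).1 hq) h
  have surB : ∀ w ∈ S.B, ∃ p : Pnt, Suz.Rep.orb.getLab p = 2 ∧ S.theta p0 b' p = w := by
    rintro w ⟨h, rfl⟩
    refine ⟨((h * hB⁻¹ : Hs) : GS) • p0, (lab_two_iff _).2 ⟨_, rfl⟩, ?_⟩
    rw [S.theta_base hsB, hb', rho_mul, rho_inv]
  have bpart : ∀ u : Ω, {w | w ∈ S.B ∧ S.R u w}.ncard =
      {p : Pnt | Suz.Rep.orb.getLab p = 2 ∧ S.R u (S.theta p0 b' p)}.ncard := by
    intro u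
    refine Eq.trans (congrArg Set.ncard ?_) ((injB.mono (show {p : Pnt | Suz.Rep.orb.getLab p = 2 ∧ S.R u (S.theta p0 b' p)} ⊆
      {p : Pnt | Suz.Rep.orb.getLab p = 2} from fun p hp => hp.1)).ncard_image)
    ext w
    constructor
    · rintro ⟨hw, hr⟩
      obtain ⟨p, hp, rfl⟩ := surB w hw
      exact ⟨p, ⟨hp, hr⟩, rfl⟩
    · rintro ⟨p, ⟨hp, hr⟩, rfl⟩
      exact ⟨thB p hp, hr⟩
  -- the neighbours of the first point inside its orbit
  set nB := {p : Pnt | Suz.Rep.orb.getLab p = 2 ∧ S.R b' (S.theta p0 b' p)} with hnB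
  obtain ⟨A, hA, hAc, hAm⟩ := invariant_union G24J2.oh_ok nB ({1, 2} : Finset ℕ)
    (by decide) (fun p hp => by
      have h3 := (G24J2.lab_spec p).1.1 hp.1
      simp only [Finset.mem_insert, Finset.mem_singleton]
      rcases (by omega : G24J2.oh.getLab p = 0 ∨ G24J2.oh.getLab p = 1 ∨ G24J2.oh.getLab p = 2) with h | h | h
      · exfalso
        obtain ⟨g, -, hg⟩ := (G24J2.orbit_J (c := 0) (by norm_num) p0 (by decide +kernel) p).2 h
        obtain ⟨k, hk, hkp⟩ := (G24J2.orbit_J (c := 0) (by norm_num) p0 (by decide +kernel) p).2 h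
        have : p = p0 := hkp ▸ G24J2.J_fix hk
        rw [this] at hp
        have := hp.2
        rw [S.theta_self hsB] at this
        exact S.R_irrefl _ this
      · exact Or.inl h
      · exact Or.inr h)
    (fun k hk p hp => by
      have hkH : k ∈ Hs := wordsSub_oh hk
      refine ⟨(lab_smul ⟨k, hkH⟩ p).trans hp.1, ?_⟩
      have hfix : S.ρ ⟨k, hkH⟩ b' = b' := (hsB ⟨k, hkH⟩).1 (G24J2.J_fix (G24J2.J_eq ▸ hk))
      show S.R b' (S.theta p0 b' (k • p))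
      rw [show k • p = ((⟨k, hkH⟩ : Hs) : GS) • p from rfl,
        S.theta_smul hsB ⟨k, hkH⟩ ((lab_two_iff p).1 hp.1), S.stab_nbhd_B _ hfix]
      exact hp.2)
  have hsizes : nB.ncard ∈ ({0, 100, 315, 415} : Finset ℕ) :=
    hAc ▸ (show ∀ A ∈ ({1, 2} : Finset ℕ).powerset,
      ∑ c ∈ A, G24J2.ohSizes.getD c 0 ∈ ({0, 100, 315, 415} : Finset ℕ) by decide +kernel) A hA
  -- counting
  have split_ab : ∀ u : Ω, (u ∈ S.B → S.R u a) ∧ (u ∈ S.C → ¬ S.R u a) := fun u =>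
    ⟨fun h => S.R_symm ((S.R_a u).2 h), fun h hr => S.disj ((S.R_a u).1 (S.R_symm hr)) h⟩
  have split : ∀ u : Ω, {w | S.R u w}.ncard = {w | w = a ∧ S.R u w}.ncard +
      {w | w ∈ S.B ∧ S.R u w}.ncard + {w | w ∈ S.C ∧ S.R u w}.ncard := by
    intro u
    have d1 : Disjoint {w | w = a ∧ S.R u w} {w | w ∈ S.B ∧ S.R u w} := by
      rw [Set.disjoint_left]
      rintro w ⟨rfl, -⟩ ⟨h', -⟩
      exact S.a_not_B h'
    have d2 : Disjoint ({w | w = a ∧ S.R u w} ∪ {w | w ∈ S.B ∧ S.R u w}) {w | w ∈ S.C ∧ S.R u w} := by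
      rw [Set.disjoint_left]
      rintro w (⟨rfl, -⟩ | ⟨h, -⟩) ⟨h', -⟩
      exacts [S.a_not_C h', S.disj h h']
    rw [← Set.ncard_union_eq d1 (Set.toFinite _) (Set.toFinite _),
      ← Set.ncard_union_eq d2 (Set.toFinite _) (Set.toFinite _)]
    congr 1
    ext w
    simp only [Set.mem_union, Set.mem_ofPred_eq]
    rcases S.cover w with h | h | h <;> tauto
  have ha1 : {w | w = a ∧ S.R b' w}.ncard = 1 := by
    rw [Set.ncard_eq_one]
    refine ⟨a, Set.eq_singleton_iff_unique_mem.2 ⟨⟨rfl, (split_ab b').1 hb'B⟩, fun w hw => hw.1⟩⟩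
  have hk1 : nB.ncard + {w | w ∈ S.C ∧ S.R b' w}.ncard = 415 := by
    have h := split b'
    rw [S.nbhd_card, ha1, bpart, ← hnB] at h
    omega
  have hKc : Nat.card (S.stabK c) = 184320 := by
    have hc := S.stabK_card c
    rw [show {v | ∃ h : Hs, S.ρ h c = v}.ncard = 1365 from S.orbC] at hc
    omega
  have hCcases : (∃ h : Hs, ∀ g : Hs, (g : GS) ∈ PK ↔ S.ρ g (S.ρ h c) = S.ρ h c) ∨
      ∃ h : Hs, ∀ g : Hs, (g : GS) ∈ LK ↔ S.ρ g (S.ρ h c) = S.ρ h c :=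
    (conj_parabolic (S.stabK_le c) hKc).imp (S.point_of_conj c) (S.point_of_conj c)
  have hcC : c ∈ S.C := ⟨1, S.rho_one c⟩
  -- the neighbours split as 100 and 315
  have hsz : nB.ncard = 100 ∧ ∀ y ∈ S.C, {w | w ∈ S.B ∧ S.R y w}.ncard = 96 := by
    have hd : ∀ y ∈ S.C, 416 * {w | w ∈ S.C ∧ S.R b' w}.ncard = 1365 * {w | w ∈ S.B ∧ S.R y w}.ncard :=
      fun y hy => S.double_count hb'B hy
    have hd0 := hd c hcC
    obtain ⟨u, huB, w, hwC, huw⟩ := S.not_closed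
    have hpos : 0 < {w' | w' ∈ S.C ∧ S.R u w'}.ncard :=
      (Set.ncard_pos (Set.toFinite _)).2 ⟨w, hwC, huw⟩
    have hd1 := S.double_count huB hcC
    simp only [Finset.mem_insert, Finset.mem_singleton] at hsizes
    refine ⟨?_, fun y hy => ?_⟩
    · rcases hsizes with h | h | h | h <;> omega
    · have := hd y hy
      rcases hsizes with h | h | h | h <;> omega
  have hA1 : ∀ p : Pnt, Suz.Rep.orb.getLab p = 2 →
      (S.R b' (S.theta p0 b' p) ↔ G24J2.oh.getLab p = 1) := by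
    intro p hp
    have hA' : A = {1} :=
      (show ∀ A ∈ ({1, 2} : Finset ℕ).powerset, ∑ c ∈ A, G24J2.ohSizes.getD c 0 = 100 → A = {1} by
        decide +kernel) A hA (hAc.symm.trans hsz.1)
    have h := hAm p
    rw [hA', Finset.mem_singleton] at h
    exact ⟨fun hr => h.1 ⟨hp, hr⟩, fun hl => (h.2 hl).2⟩
  rcases hCcases with ⟨hC, hhC⟩ | ⟨hC, hhC⟩
  swap
  · exfalso
    -- a line has no orbit union of size 96
    set c' := S.ρ hC c with hc'
    obtain ⟨A', hA', hA'c, -⟩ := invariant_union ol_ok {p : Pnt | Suz.Rep.orb.getLab p = 2 ∧ S.R c' (S.theta p0 b' p)}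
      ({4, 5} : Finset ℕ) (by decide) (fun p hp => by
        simp only [Finset.mem_insert, Finset.mem_singleton]
        exact (lab_point p).2.2.2.1.1 hp.1)
      (fun k hk p hp => by
        have hkL : k ∈ LK := olWords_le hk
        refine ⟨(lab_smul ⟨k, hkL.1⟩ p).trans hp.1, ?_⟩
        show S.R c' (S.theta p0 b' (k • p))
        rw [show k • p = ((⟨k, hkL.1⟩ : Hs) : GS) • p from rfl,
          S.theta_smul hsB ⟨k, hkL.1⟩ ((lab_two_iff p).1 hp.1),
          S.stab_nbhd_B _ ((hhC ⟨k, hkL.1⟩).1 hkL)]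
        exact hp.2)
    have h96 := hsz.2 c' ⟨hC, rfl⟩
    rw [bpart, hA'c] at h96
    exact (show ∀ A ∈ ({4, 5} : Finset ℕ).powerset, ∑ c ∈ A, olSizes.getD c 0 ≠ 96 by decide +kernel) A' hA' h96
  set c' := S.ρ hC c with hc'
  have hsC : S.SameStab qpt c' := fun g => (PK_iff g).symm.trans (hhC g)
  have hc'C : c' ∈ S.C := ⟨hC, rfl⟩
  have thC : ∀ p : Pnt, Suz.Rep.orb.getLab p = 1 → S.theta qpt c' p ∈ S.C := by
    intro p hp
    obtain ⟨g, rfl⟩ := (lab_one_iff p).1 hp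
    rw [S.theta_base hsC]
    exact (S.mem_C_rho g).2 hc'C
  have injC : Set.InjOn (S.theta qpt c') {p : Pnt | Suz.Rep.orb.getLab p = 1} :=
    fun p hp q hq h => S.theta_inj hsC ((lab_one_iff p).1 hp) ((lab_one_iff q).1 hq) h
  have surC : ∀ w ∈ S.C, ∃ p : Pnt, Suz.Rep.orb.getLab p = 1 ∧ S.theta qpt c' p = w := by
    rintro w ⟨h, rfl⟩
    refine ⟨((h * hC⁻¹ : Hs) : GS) • qpt, (lab_one_iff _).2 ⟨_, rfl⟩, ?_⟩
    rw [S.theta_base hsC, hc', rho_mul, rho_inv]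
  have cpart : ∀ u : Ω, {w | w ∈ S.C ∧ S.R u w}.ncard =
      {p : Pnt | Suz.Rep.orb.getLab p = 1 ∧ S.R u (S.theta qpt c' p)}.ncard := by
    intro u
    refine Eq.trans (congrArg Set.ncard ?_) ((injC.mono (show {p : Pnt | Suz.Rep.orb.getLab p = 1 ∧ S.R u (S.theta qpt c' p)} ⊆
      {p : Pnt | Suz.Rep.orb.getLab p = 1} from fun p hp => hp.1)).ncard_image)
    ext w
    constructor
    · rintro ⟨hw, hr⟩
      obtain ⟨p, hp, rfl⟩ := surC w hw
      exact ⟨p, ⟨hp, hr⟩, rfl⟩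
    · rintro ⟨p, ⟨hp, hr⟩, rfl⟩
      exact ⟨thC p hp, hr⟩
  have hYB : ∀ p : Pnt, Suz.Rep.orb.getLab p = 2 →
      (S.R c' (S.theta p0 b' p) ↔ col qP p = 2) := by
    obtain ⟨A', hA', hA'c, hA'm⟩ := invariant_union op_ok {p : Pnt | Suz.Rep.orb.getLab p = 2 ∧ S.R c' (S.theta p0 b' p)}
      ({5, 6} : Finset ℕ) (by decide) (fun p hp => by
        simp only [Finset.mem_insert, Finset.mem_singleton]
        exact (lab_point p).1.1 hp.1)
      (fun k hk p hp => by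
        have hkP : k ∈ PK := opWords_le hk
        refine ⟨(lab_smul ⟨k, hkP.1⟩ p).trans hp.1, ?_⟩
        show S.R c' (S.theta p0 b' (k • p))
        rw [show k • p = ((⟨k, hkP.1⟩ : Hs) : GS) • p from rfl,
          S.theta_smul hsB ⟨k, hkP.1⟩ ((lab_two_iff p).1 hp.1),
          S.stab_nbhd_B _ ((hhC ⟨k, hkP.1⟩).1 hkP)]
        exact hp.2)
    have h96 := hsz.2 c' hc'C
    rw [bpart, hA'c] at h96
    have hA6 : A' = {6} :=
      (show ∀ A ∈ ({5, 6} : Finset ℕ).powerset, ∑ c ∈ A, opSizes.getD c 0 = 96 → A = {6} by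
        decide +kernel) A' hA' h96
    intro p hp
    have h := hA'm p
    rw [hA6, Finset.mem_singleton] at h
    rw [(lab_point p).2.2.1]
    refine ⟨fun hr => Or.inr (h.1 ⟨hp, hr⟩), fun hl => (h.2 ?_).2⟩
    rcases hl with hl | hl
    · rcases (lab_point p).1.1 hp with h5 | h5 <;> omega
    · exact hl
  have hYC : ∀ p : Pnt, Suz.Rep.orb.getLab p = 1 →
      (S.R c' (S.theta qpt c' p) ↔ col qP p = 2) := by
    obtain ⟨A', hA', hA'c, hA'm⟩ := invariant_union op_ok {p : Pnt | Suz.Rep.orb.getLab p = 1 ∧ S.R c' (S.theta qpt c' p)}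
      ({1, 2, 3, 4} : Finset ℕ) (by decide) (fun p hp => by
        simp only [Finset.mem_insert, Finset.mem_singleton]
        exact (lab_point p).2.1.1 hp.1)
      (fun k hk p hp => by
        have hkP : k ∈ PK := opWords_le hk
        refine ⟨(lab_smul ⟨k, hkP.1⟩ p).trans hp.1, ?_⟩
        show S.R c' (S.theta qpt c' (k • p))
        rw [show k • p = ((⟨k, hkP.1⟩ : Hs) : GS) • p from rfl,
          S.theta_smul hsC ⟨k, hkP.1⟩ ((lab_one_iff p).1 hp.1),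
          S.stab_nbhd_B _ ((hhC ⟨k, hkP.1⟩).1 hkP)]
        exact hp.2)
    have h320 : {w | w ∈ S.C ∧ S.R c' w}.ncard = 320 := by
      have h := split c'
      rw [S.nbhd_card, hsz.2 c' hc'C] at h
      have h0 : {w | w = a ∧ S.R c' w}.ncard = 0 := by
        rw [Set.ncard_eq_zero (Set.toFinite _), Set.eq_empty_iff_forall_notMem]
        rintro w ⟨rfl, hw⟩
        exact (split_ab c').2 hc'C hw
      omega
    rw [cpart, hA'c] at h320
    have hA4 : A' = {4} :=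
      (show ∀ A ∈ ({1, 2, 3, 4} : Finset ℕ).powerset, ∑ c ∈ A, opSizes.getD c 0 = 320 → A = {4} by
        decide +kernel) A' hA' h320
    intro p hp
    have h := hA'm p
    rw [hA4, Finset.mem_singleton] at h
    rw [(lab_point p).2.2.1]
    refine ⟨fun hr => Or.inl (h.1 ⟨hp, hr⟩), fun hl => (h.2 ?_).2⟩
    rcases hl with hl | hl
    · exact hl
    · rcases (lab_point p).2.1.1 hp with h5 | h5 | h5 | h5 <;> omega
  -- the bijection
  let ψ : Pnt → Ω := S.psi b' c'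
  have ψ0 : ψ zpt = a := by
    have h : Suz.Rep.orb.getLab zpt = 0 := (lab_lt 0 (by norm_num)).2.2 rfl
    show (if _ then _ else if _ then _ else a) = a
    rw [if_neg (by omega), if_neg (by omega)]
  have ψB : ∀ p : Pnt, Suz.Rep.orb.getLab p = 2 → ψ p = S.theta p0 b' p := fun p hp => if_pos hp
  have ψC : ∀ p : Pnt, Suz.Rep.orb.getLab p = 1 → ψ p = S.theta qpt c' p := fun p hp => by
    show (if _ then _ else if _ then _ else a) = _
    rw [if_neg (by omega), if_pos hp]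
  have tri : ∀ p : Pnt, p = zpt ∨ Suz.Rep.orb.getLab p = 1 ∨ Suz.Rep.orb.getLab p = 2 := by
    intro p
    obtain ⟨h1, h2⟩ := lab_lt p p.2
    rcases (by omega : Suz.Rep.orb.getLab p = 0 ∨ Suz.Rep.orb.getLab p = 1 ∨ Suz.Rep.orb.getLab p = 2) with h | h | h
    exacts [Or.inl (Fin.ext (h2.1 h)), Or.inr (Or.inl h), Or.inr (Or.inr h)]
  have ψeq : ∀ (g : Hs) (p : Pnt), ψ ((g : GS) • p) = S.ρ g (ψ p) := by
    intro g p
    rcases tri p with rfl | h | h
    · rw [Hs_fix, ψ0, rho_a]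
    · rw [ψC p h, ψC _ ((lab_smul g p).trans h), S.theta_smul hsC g ((lab_one_iff p).1 h)]
    · rw [ψB p h, ψB _ ((lab_smul g p).trans h), S.theta_smul hsB g ((lab_two_iff p).1 h)]
  have ψsur : Function.Surjective ψ := by
    intro w
    rcases S.cover w with rfl | h | h
    · exact ⟨zpt, ψ0⟩
    · obtain ⟨p, hp, rfl⟩ := surB w h
      exact ⟨p, ψB p hp⟩
    · obtain ⟨p, hp, rfl⟩ := surC w h
      exact ⟨p, ψC p hp⟩
  have ψbij : Function.Bijective ψ :=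
    ψsur.bijective_of_nat_card_le (le_of_eq (by rw [Nat.card_fin, S.card]; rfl))
  refine ⟨Equiv.ofBijective ψ ψbij, fun p q => ?_⟩
  show S.R (ψ p) (ψ q) ↔ col p q = 2
  have base0 : ∀ q : Pnt, S.R (ψ zpt) (ψ q) ↔ col zpt q = 2 := by
    intro q
    rw [ψ0, S.R_a, show col (zpt : ℕ) q = Suz.Rep.orb.getLab q from col_base q]
    rcases tri q with rfl | h | h
    · rw [ψ0, show Suz.Rep.orb.getLab zpt = 0 from (lab_lt 0 (by norm_num)).2.2 rfl]
      exact ⟨fun h => absurd h S.a_not_B, fun h => by omega⟩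
    · rw [ψC q h, h]
      exact ⟨fun hB' => absurd (thC q h) (S.disj hB'), fun h => by omega⟩
    · rw [ψB q h]
      exact ⟨fun _ => h, fun _ => thB q h⟩
  have baseY : ∀ q : Pnt, S.R (ψ qpt) (ψ q) ↔ col qP q = 2 := by
    intro q
    have hl : Suz.Rep.orb.getLab qpt = 1 := (lab_one_iff _).2 ⟨1, one_smul GS qpt⟩
    rw [ψC qpt hl, S.theta_self hsC]
    rcases tri q with rfl | h | h
    · rw [ψ0, show col qP (zpt : ℕ) = col (zpt : ℕ) qP from col_symm qpt zpt,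
        show col (zpt : ℕ) qP = Suz.Rep.orb.getLab qpt from col_base qP, hl]
      exact ⟨fun h => absurd h ((split_ab c').2 hc'C), fun h => by omega⟩
    · rw [ψC q h]; exact hYC q h
    · rw [ψB q h]; exact hYB q h
  have move : ∀ (g : Hs) (p q : Pnt), (S.R (ψ ((g : GS) • p)) (ψ ((g : GS) • q)) ↔ S.R (ψ p) (ψ q)) := by
    intro g p q
    rw [ψeq, ψeq, S.R_smul (S.rho_mem g)]
  have hl0 : Suz.Rep.orb.getLab p0 = 2 := (lab_two_iff _).2 ⟨1, one_smul GS p0⟩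
  have baseX : ∀ q : Pnt, S.R (ψ p0) (ψ q) ↔ col (p0 : ℕ) q = 2 := by
    intro q
    rcases tri q with rfl | h | h
    · rw [S.R_comm, base0, col_symm]
    · obtain ⟨g, rfl⟩ := (lab_one_iff q).1 h
      rw [S.R_comm, ← smul_inv_smul (g : GS) p0, move g, baseY,
        col_symm ((g : GS) • (g : GS)⁻¹ • p0) ((g : GS) • qpt), col_smul]
      rfl
    · rw [ψB p0 hl0, S.theta_self hsB, ψB q h, hA1 q h]
      have hc := allRange_spec colB_ok q (Nat.zero_le _) (lt_of_lt_of_eq q.2 (Nat.zero_add 1782).symm)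
      rw [h, Nat.beq_refl, Bool.not_true, Bool.false_or, beq_iff_eq] at hc
      rw [← Nat.beq_eq, ← hc, Nat.beq_eq]
      rfl
  rcases tri p with rfl | h | h
  · exact base0 q
  · obtain ⟨g, rfl⟩ := (lab_one_iff p).1 h
    rw [← smul_inv_smul (g : GS) q, move g, baseY, col_smul]
    rfl
  · obtain ⟨g, rfl⟩ := (lab_two_iff p).1 h
    rw [← smul_inv_smul (g : GS) q, move g, baseX, col_smul]

end Setting

end Cfsg.Agent.SuzRec12
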