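import Cfsg.Agent.SuzRec12.DefsB
import Cfsg.Agent.Recog71.SuzOutMain
import Cfsg.Agent.G24J2.Main

/-!
Words in the stabiliser of a point of the Suzuki group.
-/

set_option autoImplicit false

namespace Cfsg.Agent.SuzRec12

open Cfsg.Agent.CosetEnum
open Cfsg.Agent.Recog71.SuzOut (ev)
open Cfsg.Agent.G24J2 (Hs)

/-- The Suzuki group as presented. -/
abbrev GS : Type := Suz.pres.Gp

theorem okH_lt {W : List ℕ} (h : okH W = true) : ∀ l ∈ W, l < 6 :=
  fun _ hl => Nat.le_of_ble_eq_true (List.all_eq_true.mp h _ hl)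

theorem okH_lt7 {W : List ℕ} (h : okH W = true) : ∀ l ∈ W, l < Suz.Rep.tbl.nl :=
  fun l hl => lt_trans (okH_lt h l hl) (by decide : 6 < 7)

theorem okH_append {U V : List ℕ} (hU : okH U = true) (hV : okH V = true) : okH (U ++ V) = true := by
  rw [okH, List.all_append, Bool.and_eq_true]
  exact ⟨hU, hV⟩

theorem okH_reverse {U : List ℕ} (hU : okH U = true) : okH U.reverse = true := by
  simpa [okH] using hU

theorem okH_rep {U : List ℕ} (hU : okH U = true) : ∀ m, okH (repWord U m) = true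
  | 0 => rfl
  | m + 1 => okH_append hU (okH_rep hU m)

theorem okH_expand {gs : List (List ℕ)} (hgs : ∀ g ∈ gs, okH g = true) : ∀ w : List ℕ,
    okH (expand gs w) = true
  | [] => rfl
  | k :: w => by
    refine okH_append ?_ (okH_expand hgs w)
    show okH (gs.getD k []) = true
    rcases Nat.lt_or_ge k gs.length with h | h
    · rw [List.getD_eq_getElem _ _ h]; exact hgs _ (List.getElem_mem h)
    · rw [List.getD_eq_default _ _ h]; rfl

theorem ev_append (U V : List ℕ) : ev (U ++ V) = ev U * ev V := Recog71.SuzOut.ev_append U V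

theorem ev_rev (U : List ℕ) : ev U.reverse = (ev U)⁻¹ := Recog71.SuzOut.ev_reverse U

theorem ev_rep (U : List ℕ) (m : ℕ) : ev (repWord U m) = ev U ^ m := Recog71.SuzOut.ev_rep U m

theorem ev_nil : ev [] = 1 := rfl

theorem ev_expand (gs : List (List ℕ)) (K : Subgroup GS) (hgs : ∀ g ∈ gs, ev g ∈ K) : ∀ w : List ℕ,
    ev (expand gs w) ∈ K
  | [] => one_mem K
  | k :: w => by
    show ev (gs.getD k [] ++ expand gs w) ∈ K
    rw [ev_append]
    refine mul_mem ?_ (ev_expand gs K hgs w)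
    rcases Nat.lt_or_ge k gs.length with h | h
    · rw [List.getD_eq_getElem _ _ h]; exact hgs _ (List.getElem_mem h)
    · rw [List.getD_eq_default _ _ h]; exact one_mem K

theorem ev_mem_Hs {W : List ℕ} (hW : okH W = true) : ev W ∈ Hs := by
  have hlt := okH_lt hW
  clear hW
  induction W with
  | nil => exact one_mem _
  | cons l W ih =>
    show Suz.pres.val l * ev W ∈ _
    refine mul_mem ?_ (ih fun x hx => hlt x (List.mem_cons_of_mem _ hx))
    rw [Hs, Suz.pres.sub_eq_closure]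
    refine Subgroup.subset_closure (List.mem_map_of_mem ?_)
    have := hlt l List.mem_cons_self
    interval_cases l <;> decide

theorem bPts_eq : bPts = Recog71.SuzOut.basePts := rfl

theorem ev_eq_of_sameB {U V : List ℕ} (hU : okH U = true) (hV : okH V = true) (h : sameB U V = true) :
    ev U = ev V := by
  refine Recog71.SuzOut.ev_eq ?_ ?_ h
  · exact List.all_eq_true.mpr fun l hl => Nat.ble_eq_true_of_le (okH_lt7 hU l hl)
  · exact List.all_eq_true.mpr fun l hl => Nat.ble_eq_true_of_le (okH_lt7 hV l hl)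

theorem ev_ne_of_sameB {U V : List ℕ} (hU : okH U = true) (hV : okH V = true) (h : sameB U V = false) :
    ev U ≠ ev V := by
  refine Recog71.SuzOut.ev_ne ?_ ?_ h
  · exact List.all_eq_true.mpr fun l hl => Nat.ble_eq_true_of_le (okH_lt7 hU l hl)
  · exact List.all_eq_true.mpr fun l hl => Nat.ble_eq_true_of_le (okH_lt7 hV l hl)

theorem ap_ev {W : List ℕ} (hW : okH W = true) {p : ℕ} (hp : p < 1782) :
    Recog71.Colour.ap Suz.rep Suz.nodup (ev W) p = Suz.Rep.tbl.run W p :=
  Recog71.Colour.ap_word (okH_lt7 hW) hp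

theorem Hs_card : Nat.card Hs = 251596800 := by rw [Hs, Suz.stab_eq.1]; exact Suz.stab_card

/-- The action and the table. -/
theorem smul_eq_iff_ap (g : GS) (x y : Fin Suz.Rep.tbl.n) :
    g • x = y ↔ Recog71.Colour.ap Suz.rep Suz.nodup g y = x := by
  have hap : Recog71.Colour.ap Suz.rep Suz.nodup g y = ((Suz.rep.hom Suz.nodup g)⁻¹ y : Fin _) := by
    rw [Recog71.Colour.ap, dif_pos y.2]
  rw [hap, G24J2.smul_def]
  constructor
  · rintro rfl
    simp [G24J2.φ]
  · intro h
    have h' : (Suz.rep.hom Suz.nodup g)⁻¹ y = x := Fin.ext h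
    exact (Equiv.Perm.inv_eq_iff_eq.mp h').symm

theorem ap_eq_smul (g : GS) (x : Fin Suz.Rep.tbl.n) :
    Recog71.Colour.ap Suz.rep Suz.nodup g x = (g⁻¹ • x : Fin Suz.Rep.tbl.n) :=
  (smul_eq_iff_ap g (g⁻¹ • x) x).1 (smul_inv_smul g x)

theorem ev_smul {W : List ℕ} (hW : okH W = true) (x : Fin Suz.Rep.tbl.n) :
    (((ev W)⁻¹ • x : Fin Suz.Rep.tbl.n) : ℕ) = Suz.Rep.tbl.run W x := by
  rw [← ap_eq_smul, ap_ev hW x.2]

end Cfsg.Agent.SuzRec12
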