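import Cfsg.Agent.SuzRec12.CheckB
import Cfsg.Agent.SuzRec12.Words
import Cfsg.Agent.SuzRec12.Abstract

/-!
A subgroup of index 416 of the stabiliser of a point is conjugate to the Hall-Janko subgroup.
-/

set_option autoImplicit false

namespace Cfsg.Agent.SuzRec12

open Cfsg.Agent.CosetEnum
open Cfsg.Agent.Recog71.SuzOut (ev)
open Cfsg.Agent.G24J2 (Hs J)

theorem chunk_spec {p : ℕ → Bool} (h0 : allRange p 0 520 = true) (h1 : allRange p 520 520 = true)
    (h2 : allRange p 1040 520 = true) (h3 : allRange p 1560 520 = true) {i : ℕ} (hi : i < 2080) :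
    p i = true := by
  rcases Nat.lt_or_ge i 1040 with a | a
  · rcases Nat.lt_or_ge i 520 with b | b
    · exact allRange_spec h0 i (Nat.zero_le _) (by omega)
    · exact allRange_spec h1 i b (by omega)
  · rcases Nat.lt_or_ge i 1560 with b | b
    · exact allRange_spec h2 i a (by omega)
    · exact allRange_spec h3 i b (by omega)

/-- The element numbered `e`: a class member or its inverse. -/
noncomputable def el (e : ℕ) : GS := ev (eW e)

theorem eW_two (i : ℕ) : eW (2 * i) = zW i ∧ eW (2 * i + 1) = (zW i).reverse := by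
  constructor
  · rw [eW, show Nat.land (2 * i) 1 = 0 by rw [show Nat.land (2*i) 1 = (2*i) &&& 1 from rfl, Nat.and_one_is_mod]; omega,
      show Nat.shiftRight (2 * i) 1 = i by show (2*i) >>> 1 = i; rw [Nat.shiftRight_eq_div_pow]; omega]
    rfl
  · rw [eW, show Nat.land (2 * i + 1) 1 = 1 by rw [show Nat.land (2*i+1) 1 = (2*i+1) &&& 1 from rfl, Nat.and_one_is_mod]; omega,
      show Nat.shiftRight (2 * i + 1) 1 = i by show (2*i+1) >>> 1 = i; rw [Nat.shiftRight_eq_div_pow]; omega]
    rfl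

theorem el_even (i : ℕ) : el (2 * i) = ev (zW i) := by rw [el, (eW_two i).1]

theorem el_odd (i : ℕ) : el (2 * i + 1) = (ev (zW i))⁻¹ := by rw [el, (eW_two i).2, ev_rev]

theorem e_cases (e : ℕ) : e = 2 * (e / 2) ∨ e = 2 * (e / 2) + 1 := by omega

theorem img_spec {i : ℕ} (hi : i < 2080) : okH (zW i) = true ∧ okH (uW i) = true ∧
    hasImg (zW i) (2 * i) = true ∧ hasImg (zW i).reverse (2 * i + 1) = true := by
  have h := chunk_spec img_ok0 img_ok1 img_ok2 img_ok3 hi
  simp only [imgPoint, Bool.and_eq_true] at h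
  exact ⟨h.1.1.1, h.1.1.2, h.1.2, h.2⟩

theorem eW_ok {e : ℕ} (he : e < 4160) : okH (eW e) = true ∧ hasImg (eW e) e = true := by
  obtain ⟨h1, -, h3, h4⟩ := img_spec (i := e / 2) (by omega)
  rcases e_cases e with h | h <;> rw [h]
  · rw [(eW_two _).1]; exact ⟨h1, h3⟩
  · rw [(eW_two _).2]; exact ⟨okH_reverse h1, h4⟩

theorem run_of_hasImg {W : List ℕ} {e : ℕ} (h : hasImg W e = true) (k : ℕ) (hk : k < 4) :
    Suz.Rep.tbl.run W (bPts.getD k 0) = imgData.get 16 (4 * e + k) :=
  Nat.eq_of_beq_eq_true (allRange_spec h k (Nat.zero_le _) (by omega))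

theorem eq_el {W : List ℕ} {e : ℕ} (hW : okH W = true) (he : e < 4160) (h : hasImg W e = true) :
    ev W = el e := by
  obtain ⟨h1, h2⟩ := eW_ok he
  refine ev_eq_of_sameB hW h1 (List.all_eq_true.mpr fun p hp => ?_)
  obtain ⟨k, hk, rfl⟩ := List.getElem_of_mem hp
  rw [Nat.beq_eq, ← List.getD_eq_getElem bPts 0 hk, run_of_hasImg h k hk, run_of_hasImg h2 k hk]

theorem el_ekey {e e' : ℕ} (he : e < 4160) (he' : e' < 4160) (h : el e = el e') : eKey e = eKey e' := by
  obtain ⟨h1, h2⟩ := eW_ok he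
  obtain ⟨h1', h2'⟩ := eW_ok he'
  have key : ∀ k < 4, imgData.get 16 (4 * e + k) = imgData.get 16 (4 * e' + k) := by
    intro k hk
    have hp : bPts.getD k 0 < 1782 := by interval_cases k <;> decide
    rw [← run_of_hasImg h2 k hk, ← run_of_hasImg h2' k hk, ← ap_ev h1 hp, ← ap_ev h1' hp,
      show ev (eW e) = ev (eW e') from h]
  show imgData.get 16 (4 * e + 1) + (2048 * imgData.get 16 (4 * e + 2) + 4194304 * imgData.get 16 (4 * e + 3)) =
    imgData.get 16 (4 * e' + 1) + (2048 * imgData.get 16 (4 * e' + 2) + 4194304 * imgData.get 16 (4 * e' + 3))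
  rw [key 1 (by norm_num), key 2 (by norm_num), key 3 (by norm_num)]

theorem esorted_lt {a b : ℕ} (hab : a < b) (hb : b < 4160) : eSorted.get 64 a < eSorted.get 64 b := by
  induction b with
  | zero => omega
  | succ b ih =>
    have h : eSorted.get 64 b < eSorted.get 64 (b + 1) :=
      Nat.le_of_ble_eq_true (allRange_spec esorted_ok b (Nat.zero_le _) (by omega))
    rcases Nat.lt_or_ge a b with h' | h'
    · exact (ih h' (by omega)).trans h
    · rwa [show a = b by omega]

theorem el_injective {e e' : ℕ} (he : e < 4160) (he' : e' < 4160) (h : el e = el e') : e = e' := by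
  have hk := el_ekey he he' h
  have a := allRange_spec ekey_ok e (Nat.zero_le _) (by omega)
  have b := allRange_spec ekey_ok e' (Nat.zero_le _) (by omega)
  simp only [eKeyPoint, Bool.and_eq_true, Nat.beq_eq] at a b
  have a1 : eRank.get 16 e < 4160 := Nat.le_of_ble_eq_true a.1.1
  have b1 : eRank.get 16 e' < 4160 := Nat.le_of_ble_eq_true b.1.1
  have e0 : eRank.get 16 e = eRank.get 16 e' := by
    by_contra hne
    rcases Nat.lt_or_gt_of_ne hne with h' | h'
    · have := esorted_lt h' b1; omega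
    · have := esorted_lt h' a1; omega
  rw [← a.2, ← b.2, e0]

/-- The element of order three. -/
noncomputable def ez : GS := ev zWord

theorem q_facts : okH xWord = true ∧ okH yWord = true ∧ okH zWord = true ∧
    (∀ W ∈ nWords, okH W = true) ∧ ev xWord * ev yWord = ev yWord * ev xWord ∧
    ev xWord ^ 5 = 1 ∧ ev yWord ^ 5 = 1 ∧ ez ^ 3 = 1 ∧ uCode.get 64 0 = 0 ∧
    ∀ j < 4, (ev (nWords.getD j []))⁻¹ * ev xWord * ev (nWords.getD j []) =
        ev xWord ^ (nExps.getD j ((0, 0), (0, 0))).1.1 * ev yWord ^ (nExps.getD j ((0, 0), (0, 0))).1.2 ∧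
      (ev (nWords.getD j []))⁻¹ * ev yWord * ev (nWords.getD j []) =
        ev xWord ^ (nExps.getD j ((0, 0), (0, 0))).2.1 * ev yWord ^ (nExps.getD j ((0, 0), (0, 0))).2.2 := by
  have h := q_ok
  simp only [qCheck, Bool.and_eq_true] at h
  obtain ⟨⟨⟨⟨⟨⟨⟨⟨⟨⟨hx, hy⟩, hz⟩, hn⟩, -⟩, hc⟩, hx5⟩, hy5⟩, hz3⟩, h0⟩, hconj⟩ := h
  have hn' : ∀ W ∈ nWords, okH W = true := fun W hW => List.all_eq_true.mp hn W hW
  refine ⟨hx, hy, hz, hn', ?_, ?_, ?_, ?_, Nat.eq_of_beq_eq_true h0, fun j hj => ?_⟩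
  · rw [← ev_append, ← ev_append]; exact ev_eq_of_sameB (okH_append hx hy) (okH_append hy hx) hc
  · rw [← ev_rep]; exact ev_eq_of_sameB (okH_rep hx 5) rfl hx5
  · rw [← ev_rep]; exact ev_eq_of_sameB (okH_rep hy 5) rfl hy5
  · rw [ez, ← ev_rep]; exact ev_eq_of_sameB (okH_rep hz 3) rfl hz3
  · have hW : okH (nWords.getD j []) = true := by
      rcases Nat.lt_or_ge j nWords.length with h | h
      · rw [List.getD_eq_getElem _ _ h]; exact hn' _ (List.getElem_mem h)
      · rw [List.getD_eq_default _ _ h]; rfl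
    have h' := allRange_spec hconj j (Nat.zero_le _) (by omega)
    simp only [Bool.and_eq_true] at h'
    rw [← ev_rev, ← ev_rep, ← ev_rep, ← ev_rep, ← ev_rep, ← ev_append, ← ev_append, ← ev_append,
      ← ev_append, ← ev_append, ← ev_append]
    exact ⟨ev_eq_of_sameB (okH_append (okH_append (okH_reverse hW) hx) hW)
        (okH_append (okH_rep hx _) (okH_rep hy _)) h'.1,
      ev_eq_of_sameB (okH_append (okH_append (okH_reverse hW) hy) hW)
        (okH_append (okH_rep hx _) (okH_rep hy _)) h'.2⟩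

theorem el_zero : el 0 = ez := by
  have h := (eW_two 0).1
  simp only [Nat.mul_zero] at h
  rw [el, h, zW, uW, q_facts.2.2.2.2.2.2.2.2.1]
  show ev ([] ++ zWord ++ []) = _
  rw [List.nil_append, List.append_nil]
  rfl

theorem el_inv {e : ℕ} : ∃ e', (e < 4160 → e' < 4160) ∧ (el e)⁻¹ = el e' := by
  rcases e_cases e with h | h
  · exact ⟨2 * (e / 2) + 1, fun _ => by omega, by rw [el_odd, h, el_even, ← h]⟩
  · exact ⟨2 * (e / 2), fun _ => by omega, by rw [el_even, h, el_odd, inv_inv, ← h]⟩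

theorem class_step {e : ℕ} (he : e < 4160) {l : ℕ} (hl : l < 6) :
    ∃ e' < 4160, Suz.pres.val l * el e * (Suz.pres.val l)⁻¹ = el e' := by
  have hi : e / 2 < 2080 := by omega
  obtain ⟨hz, -, -, -⟩ := img_spec hi
  have h := allRange_spec (chunk_spec step_ok0 step_ok1 step_ok2 step_ok3 hi) l (Nat.zero_le _) (by omega)
  rw [Bool.and_eq_true] at h
  have hlt : stepData.get 16 (6 * (e / 2) + l) < 4160 := Nat.le_of_ble_eq_true h.1
  have hl' : okH [l] = true := by simp [okH, Nat.blt, Nat.ble_eq]; omega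
  have hv : ev [l] = Suz.pres.val l := mul_one _
  have h0 : Suz.pres.val l * ev (zW (e / 2)) * (Suz.pres.val l)⁻¹ = el (stepData.get 16 (6 * (e / 2) + l)) := by
    rw [← eq_el (W := l :: (zW (e / 2) ++ [l]))
      (show okH ([l] ++ (zW (e / 2) ++ [l])) = true from okH_append hl' (okH_append hz hl')) hlt h.2]
    show _ = ev ([l] ++ (zW (e / 2) ++ [l]))
    rw [ev_append, ev_append, hv, Recog71.SuzOut.ev_val_inv, mul_assoc]
  rcases e_cases e with he' | he'
  · exact ⟨_, hlt, by conv_lhs => rw [he', el_even]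
                      exact h0⟩
  · obtain ⟨e', h1, h2⟩ := el_inv (e := stepData.get 16 (6 * (e / 2) + l))
    refine ⟨e', h1 hlt, ?_⟩
    conv_lhs => rw [he', el_odd]
    rw [← h2, ← h0]
    group

theorem class_closed {h : GS} (hh : h ∈ Hs) : ∀ e < 4160, ∃ e' < 4160, h * el e * h⁻¹ = el e' := by
  rw [Hs, Suz.pres.sub_eq_closure] at hh
  induction hh using Subgroup.closure_induction with
  | mem x hx =>
    obtain ⟨l, hl, rfl⟩ := List.mem_map.mp hx
    intro e he
    refine class_step he ?_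
    simp only [Suz.H.sel, List.mem_cons, List.not_mem_nil, or_false] at hl
    omega
  | one => intro e he; exact ⟨e, he, by simp⟩
  | mul a b _ _ ha hb =>
    intro e he
    obtain ⟨e1, he1, h1⟩ := hb e he
    obtain ⟨e2, he2, h2⟩ := ha e1 he1
    exact ⟨e2, he2, by rw [← h2, ← h1]; group⟩
  | inv a _ ha =>
    intro e he
    have hsurj : Function.Surjective fun i : Fin 4160 => (⟨(ha i i.2).choose, (ha i i.2).choose_spec.1⟩ : Fin 4160) := by
      refine Finite.injective_iff_surjective.1 fun i j hij => Fin.ext (el_injective i.2 j.2 ?_)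
      have h1 := (ha i i.2).choose_spec.2
      have h2 := (ha j j.2).choose_spec.2
      rw [show (ha i i.2).choose = (ha j j.2).choose from congrArg Fin.val hij, ← h2] at h1
      exact mul_left_cancel (mul_right_cancel h1)
    obtain ⟨i, hi⟩ := hsurj ⟨e, he⟩
    refine ⟨i, i.2, ?_⟩
    have h1 := (ha i i.2).choose_spec.2
    rw [show (ha i i.2).choose = e from congrArg Fin.val hi] at h1
    rw [← h1]
    group

theorem el_conj {e : ℕ} (he : e < 4160) : ∃ g ∈ Hs, g * ez * g⁻¹ = el e := by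
  have hi : e / 2 < 2080 := by omega
  obtain ⟨-, hu, -, -⟩ := img_spec hi
  have h0 : ev (zW (e / 2)) = (ev (uW (e / 2)))⁻¹ * ez * ev (uW (e / 2)) := by
    rw [zW, ev_append, ev_append, ev_rev]; rfl
  obtain ⟨d, hd, hdz⟩ : ∃ d ∈ Hs, d * ez * d⁻¹ = ez⁻¹ := by
    refine ⟨ev [3], ev_mem_Hs rfl, ?_⟩
    rw [ez, ← ev_rev, ← ev_rev, ← ev_append, ← ev_append]
    exact ev_eq_of_sameB (by decide) (by decide) (by decide +kernel)
  rcases e_cases e with h | h <;> rw [h]
  · refine ⟨(ev (uW (e / 2)))⁻¹, inv_mem (ev_mem_Hs hu), ?_⟩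
    rw [el_even, h0, inv_inv]
  · refine ⟨(ev (uW (e / 2)))⁻¹ * d, mul_mem (inv_mem (ev_mem_Hs hu)) hd, ?_⟩
    rw [el_odd, h0]
    calc (ev (uW (e / 2)))⁻¹ * d * ez * ((ev (uW (e / 2)))⁻¹ * d)⁻¹
        = (ev (uW (e / 2)))⁻¹ * (d * ez * d⁻¹) * ev (uW (e / 2)) := by group
      _ = _ := by rw [hdz]; group

/-- A conjugate of a subgroup is the Hall-Janko subgroup. -/
def ConjJ (K : Subgroup GS) : Prop := ∃ h ∈ Hs, ∀ k, k ∈ K ↔ h * k * h⁻¹ ∈ J

/-- Every subgroup of order 604800 containing the five-subgroup and the member `i` is conjugate to `J`. -/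
def Good (i : ℕ) : Prop := ∀ K : Subgroup GS, K ≤ Hs → Nat.card K = 604800 →
  ev xWord ∈ K → ev yWord ∈ K → ev (zW i) ∈ K → ConjJ K

theorem not_thirteen {K : Subgroup GS} (hc : Nat.card K = 604800) {g : GS} (hg : g ∈ K)
    (h13 : g ^ 13 = 1) (hne : g ≠ 1) : False := by
  haveI := Suz.finite
  haveI : Fact (Nat.Prime 13) := ⟨by norm_num⟩
  have h := Subgroup.orderOf_dvd_natCard K hg
  rw [orderOf_eq_prime h13 hne, hc] at h
  norm_num at h

theorem good_B {r : ℕ × List ℕ} (hr : r ∈ rootsB) : Good r.1 := by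
  intro K _ hc hx hy hz
  have h := List.all_eq_true.mp rootsB_ok r hr
  simp only [bPoint, Bool.and_eq_true, Bool.not_eq_true'] at h
  obtain ⟨⟨⟨hlt, -⟩, h13⟩, hne⟩ := h
  have hi : r.1 < 2080 := Nat.le_of_ble_eq_true hlt
  have hgs : ∀ g ∈ [xWord, yWord, zW r.1], okH g = true := by
    simp only [List.mem_cons, List.not_mem_nil, or_false]
    rintro g (rfl | rfl | rfl)
    exacts [q_facts.1, q_facts.2.1, (img_spec hi).1]
  have hok := okH_expand hgs r.2
  refine (not_thirteen hc (ev_expand _ K ?_ r.2) ?_ (ev_ne_of_sameB hok rfl hne)).elim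
  · simp only [List.mem_cons, List.not_mem_nil, or_false]
    rintro g (rfl | rfl | rfl) <;> assumption
  · rw [← ev_rep]; exact ev_eq_of_sameB (okH_rep hok 13) rfl h13

theorem good_J {r : ℕ × List (List ℕ)} (hr : r ∈ rootsJ) : Good r.1 := by
  haveI := Suz.finite
  intro K _ hc hx hy hz
  have h := List.all_eq_true.mp rootsJ_ok r hr
  simp only [jPoint, Bool.and_eq_true] at h
  have hi : r.1 < 2080 := Nat.le_of_ble_eq_true h.1
  have hgs : ∀ g ∈ [xWord, yWord, zW r.1], okH g = true := by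
    simp only [List.mem_cons, List.not_mem_nil, or_false]
    rintro g (rfl | rfl | rfl)
    exacts [q_facts.1, q_facts.2.1, (img_spec hi).1]
  have hle : J ≤ K := by
    rw [J, Suz.pres.sub_eq_closure, Subgroup.closure_le]
    intro g hg
    obtain ⟨l, hl, rfl⟩ := List.mem_map.mp hg
    have hl' : l < 5 := by
      simp only [Suz.J2.sel, List.mem_cons, List.not_mem_nil, or_false] at hl
      omega
    have h' := allRange_spec h.2 l (Nat.zero_le _) (by omega)
    rw [Bool.and_eq_true] at h'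
    have e : ev (expand [xWord, yWord, zW r.1] (r.2.getD l [])) = ev [l] :=
      ev_eq_of_sameB (okH_expand hgs _) (by simp [okH, Nat.blt, Nat.ble_eq]; omega) h'.2
    rw [SetLike.mem_coe, show Suz.pres.val l = ev [l] from (mul_one _).symm, ← e]
    refine ev_expand _ K ?_ _
    simp only [List.mem_cons, List.not_mem_nil, or_false]
    rintro g (rfl | rfl | rfl) <;> assumption
  have he : J = K := Subgroup.eq_of_le_of_card_ge hle (by rw [hc, G24J2.J_card])
  exact ⟨1, one_mem _, fun k => by simp [he]⟩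

theorem isSmall_iff (i : ℕ) : isSmall i = true ↔ i ∈ smallList := by
  simp [isSmall, List.any_eq_true]

theorem par_step {i : ℕ} (hi : i < 2080) (h0 : orbPar.get 32 i ≠ 0) (hg : Good (parA i))
    (hd : parA i < 2080)
    (himg : hasImg ((parH i).reverse ++ zW (parA i) ++ parH i) (2 * i + parS i) = true) : Good i := by
  intro K hK hc hx hy hz
  haveI := Suz.finite
  obtain ⟨hx', hy', -, hn, -, -, -, -, -, hconj⟩ := q_facts
  obtain ⟨j, hj, hjh⟩ : ∃ j < 4, parH i = nWords.getD j [] := by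
    refine ⟨Nat.land (Nat.shiftRight (orbPar.get 32 i) 12) 3, ?_, rfl⟩
    show _ &&& 3 < 4
    have := @Nat.and_le_right (Nat.shiftRight (orbPar.get 32 i) 12) 3
    omega
  have hokH : okH (parH i) = true := by
    rw [hjh]
    rcases Nat.lt_or_ge j nWords.length with h | h
    · rw [List.getD_eq_getElem _ _ h]; exact hn _ (List.getElem_mem h)
    · rw [List.getD_eq_default _ _ h]; rfl
  set h := ev (parH i) with hh
  have hs : parS i ≤ 1 := Nat.and_le_right
  have hze : h⁻¹ * ev (zW (parA i)) * h = el (2 * i + parS i) := by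
    rw [← eq_el (okH_append (okH_append (okH_reverse hokH) (img_spec hd).1) hokH) (by omega) himg,
      ev_append, ev_append, ev_rev]
  have hzK : h⁻¹ * ev (zW (parA i)) * h ∈ K := by
    rw [hze]
    rcases (by omega : parS i = 0 ∨ parS i = 1) with hs' | hs' <;> rw [hs']
    · rw [Nat.add_zero, el_even]; exact hz
    · rw [el_odd]; exact inv_mem hz
  obtain ⟨hcx, hcy⟩ := hconj j hj
  rw [← hjh, ← hh] at hcx hcy
  let K' : Subgroup GS := K.map (MulAut.conj h).toMonoidHom
  have mem_K' : ∀ k, k ∈ K' ↔ h⁻¹ * k * h ∈ K := by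
    intro k
    rw [Subgroup.mem_map]
    constructor
    · rintro ⟨m, hm, rfl⟩
      simpa [MulAut.conj_apply, mul_assoc] using hm
    · exact fun hk => ⟨_, hk, by simp [MulAut.conj_apply, mul_assoc]⟩
  obtain ⟨g, hgH, hgK⟩ := hg K' (fun k hk => by
      have := mul_mem (mul_mem (ev_mem_Hs hokH) (hK ((mem_K' k).1 hk))) (inv_mem (ev_mem_Hs hokH))
      rw [← hh] at this
      simpa [mul_assoc] using this)
    (by rw [show Nat.card K' = Nat.card K from Subgroup.card_map_of_injective (MulAut.conj h).injective, hc])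
    ((mem_K' _).2 (hcx ▸ mul_mem (pow_mem hx _) (pow_mem hy _)))
    ((mem_K' _).2 (hcy ▸ mul_mem (pow_mem hx _) (pow_mem hy _)))
    ((mem_K' _).2 hzK)
  refine ⟨g * h, mul_mem hgH (ev_mem_Hs hokH), fun k => ?_⟩
  rw [show g * h * k * (g * h)⁻¹ = g * (h * k * h⁻¹) * g⁻¹ by group, ← hgK, mem_K']
  simp [mul_assoc]

theorem good_big : ∀ n i, i < 2080 → depth i ≤ n → isSmall i = false → Good i := by
  intro n
  induction n using Nat.strong_induction_on with
  | _ n ih =>
    intro i hi hn hs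
    have h := chunk_spec par_ok0 par_ok1 par_ok2 par_ok3 hi
    by_cases h0 : orbPar.get 32 i = 0
    · rw [parPoint, h0, Nat.beq_refl, cond_true, hs, cond_false, isBigRoot, Bool.or_eq_true,
        List.any_eq_true, List.any_eq_true] at h
      rcases h with ⟨r, hr, hri⟩ | ⟨r, hr, hri⟩ <;> rw [Nat.eq_of_beq_eq_true hri]
      exacts [good_B hr, good_J hr]
    · rw [parPoint, show Nat.beq (orbPar.get 32 i) 0 = false from
        Bool.eq_false_iff.2 fun hb => h0 (Nat.eq_of_beq_eq_true hb), cond_false, hs] at h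
      simp only [Bool.false_or, Bool.and_eq_true, Bool.not_eq_true'] at h
      obtain ⟨⟨⟨ha, hd⟩, hns⟩, himg⟩ := h
      have hd' : depth (parA i) < depth i := Nat.le_of_ble_eq_true hd
      exact par_step hi h0 (ih (depth (parA i)) (lt_of_lt_of_le hd' hn) _ (Nat.le_of_ble_eq_true ha) le_rfl hns)
        (Nat.le_of_ble_eq_true ha) himg

theorem good_S {r : ℕ × List ℕ} (hr : r ∈ rootsS) : Good r.1 := by
  classical
  haveI := Suz.finite
  intro K hK hc hx hy hz
  by_cases hbig : ∃ i < 2080, isSmall i = false ∧ ev (zW i) ∈ K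
  · obtain ⟨i, hi, hs, hiK⟩ := hbig
    exact good_big _ i hi le_rfl hs K hK hc hx hy hiK
  push Not at hbig
  exfalso
  have h := List.all_eq_true.mp rootsS_ok r hr
  simp only [sPoint, Bool.and_eq_true, Bool.not_eq_true'] at h
  obtain ⟨⟨⟨⟨⟨⟨⟨hlt, -⟩, hhok⟩, h7⟩, -⟩, hcomm⟩, h13⟩, hne⟩ := h
  have hi : r.1 < 2080 := Nat.le_of_ble_eq_true hlt
  have hWok : okH (hW r.1) = true :=
    okH_append (okH_append (okH_reverse (img_spec hi).2.1) hhok) (img_spec hi).2.1
  let hH : Hs := ⟨ev (hW r.1), ev_mem_Hs hWok⟩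
  let zH : Hs := ⟨ev (zW r.1), hK hz⟩
  let S : Finset Hs := ((smallList.flatMap fun i => [2 * i, 2 * i + 1]).toFinset.filter fun e => e < 4160).attach.image
    fun e => (⟨el e.1, ev_mem_Hs (eW_ok (e := e.1) ((Finset.mem_filter (p := fun e => e < 4160)).1 e.2).2).1⟩ : Hs)
  let T : Finset Hs := (Finset.univ : Finset (Fin 4160)).image
    fun e : Fin 4160 => (⟨el e.1, ev_mem_Hs (eW_ok e.2).1⟩ : Hs)
  have hS : S.card ≤ 60 := by
    refine Finset.card_image_le.trans ?_
    rw [Finset.card_attach]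
    refine (Finset.card_filter_le _ _).trans ((List.toFinset_card_le _).trans ?_)
    simp [List.length_flatMap, small_len]
  have hT : T.card = 4160 := by
    rw [Finset.card_image_of_injective _ fun a b hab =>
      Fin.ext (el_injective a.2 b.2 (Subtype.ext_iff.1 hab)), Finset.card_univ, Fintype.card_fin]
  have hmem : hH ∈ K.subgroupOf Hs := by
    refine mem_of_small_orbit (K.subgroupOf Hs) zH hH (Subtype.ext ?_) (p := 7) (by norm_num) (Subtype.ext ?_)
      S T (fun k hk => ?_) (fun t ht => ?_) ?_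
    · show ev (hW r.1) * ev (zW r.1) = ev (zW r.1) * ev (hW r.1)
      rw [← ev_append, ← ev_append]
      exact ev_eq_of_sameB (okH_append hWok (img_spec hi).1) (okH_append (img_spec hi).1 hWok) hcomm
    · show ev (hW r.1) ^ 7 = 1
      rw [← ev_rep]
      exact ev_eq_of_sameB (okH_rep hWok 7) rfl h7
    · obtain ⟨e, he, hce⟩ := class_closed k.2 (2 * r.1) (by omega)
      rw [el_even] at hce
      have hkK : (k : GS) * ev (zW r.1) * (k : GS)⁻¹ ∈ K := mul_mem (mul_mem hk hz) (inv_mem hk)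
      have hzi : ev (zW (e / 2)) ∈ K := by
        rcases e_cases e with he' | he'
        · rw [hce, he', el_even] at hkK; exact hkK
        · rw [hce, he', el_odd] at hkK; exact (inv_mem_iff).1 hkK
      have hsm : e / 2 ∈ smallList := by
        rw [← isSmall_iff]
        by_contra hns
        exact hbig _ (by omega) (Bool.eq_false_iff.2 hns) hzi
      refine Finset.mem_image.2 ⟨⟨e, Finset.mem_filter.2 ⟨List.mem_toFinset.2
        (List.mem_flatMap.2 ⟨e / 2, hsm, ?_⟩), he⟩⟩, Finset.mem_attach _ _, Subtype.ext ?_⟩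
      · rcases e_cases e with he' | he' <;> simp [← he']
      · exact hce.symm
    · obtain ⟨e, -, rfl⟩ := Finset.mem_image.1 ht
      obtain ⟨g, hg, hge⟩ := el_conj e.2
      obtain ⟨g0, hg0, hge0⟩ := el_conj (e := 2 * r.1) (by omega)
      refine ⟨⟨g * g0⁻¹, mul_mem hg (inv_mem hg0)⟩, Subtype.ext ?_⟩
      show g * g0⁻¹ * ev (zW r.1) * (g * g0⁻¹)⁻¹ = el e
      rw [← el_even, ← hge0, ← hge]
      group
    · rw [hT, Hs_card, Nat.card_congr (Subgroup.subgroupOfEquivOfLe hK).toEquiv, hc]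
      calc S.card * 251596800 ≤ 60 * 251596800 := Nat.mul_le_mul hS le_rfl
        _ < 7 * (4160 * 604800) := by norm_num
  have hhK : ev (hW r.1) ∈ K := hmem
  have hgs : ∀ g ∈ [xWord, yWord, zW r.1, hW r.1], okH g = true := by
    simp only [List.mem_cons, List.not_mem_nil, or_false]
    rintro g (rfl | rfl | rfl | rfl)
    exacts [q_facts.1, q_facts.2.1, (img_spec hi).1, hWok]
  have hok := okH_expand hgs r.2
  refine not_thirteen hc (ev_expand _ K ?_ r.2) ?_ (ev_ne_of_sameB hok rfl hne)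
  · simp only [List.mem_cons, List.not_mem_nil, or_false]
    rintro g (rfl | rfl | rfl | rfl) <;> assumption
  · rw [← ev_rep]; exact ev_eq_of_sameB (okH_rep hok 13) rfl h13

theorem good_all : ∀ n i, i < 2080 → depth i ≤ n → Good i := by
  intro n
  induction n using Nat.strong_induction_on with
  | _ n ih =>
    intro i hi hn
    cases hs : isSmall i with
    | false => exact good_big n i hi hn hs
    | true =>
      have h := chunk_spec par_ok0 par_ok1 par_ok2 par_ok3 hi
      by_cases h0 : orbPar.get 32 i = 0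
      · rw [parPoint, h0, Nat.beq_refl, cond_true, hs, cond_true, List.any_eq_true] at h
        obtain ⟨r, hr, hri⟩ := h
        rw [Nat.eq_of_beq_eq_true hri]
        exact good_S hr
      · rw [parPoint, show Nat.beq (orbPar.get 32 i) 0 = false from
          Bool.eq_false_iff.2 fun hb => h0 (Nat.eq_of_beq_eq_true hb), cond_false, hs] at h
        simp only [Bool.true_or, Bool.and_true, Bool.and_eq_true] at h
        obtain ⟨⟨ha, hd⟩, himg⟩ := h
        have hd' : depth (parA i) < depth i := Nat.le_of_ble_eq_true hd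
        exact par_step hi h0 (ih (depth (parA i)) (lt_of_lt_of_le hd' hn) _ (Nat.le_of_ble_eq_true ha) le_rfl)
          (Nat.le_of_ble_eq_true ha) himg

theorem conjJ_of_card {K : Subgroup GS} (hK : K ≤ Hs) (hc : Nat.card K = 604800) : ConjJ K := by
  classical
  haveI := Suz.finite
  obtain ⟨hx, hy, hz, -, hxy, hx5, hy5, hz3, -, -⟩ := q_facts
  have hidx : (K.subgroupOf Hs).index = 416 := by
    have h := (K.subgroupOf Hs).index_mul_card
    rw [Nat.card_congr (Subgroup.subgroupOfEquivOfLe hK).toEquiv, hc, Hs_card] at h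
    omega
  let X : Hs := ⟨ev xWord, ev_mem_Hs hx⟩
  let Y : Hs := ⟨ev yWord, ev_mem_Hs hy⟩
  let Z : Hs := ⟨ez, ev_mem_Hs hz⟩
  haveI : Fact (Nat.Prime 5) := ⟨by norm_num⟩
  haveI : Fact (Nat.Prime 3) := ⟨by norm_num⟩
  have hXY : Commute X Y := Subtype.ext hxy
  have hX5 : X ^ 5 = 1 := Subtype.ext hx5
  have hY5 : Y ^ 5 = 1 := Subtype.ext hy5
  have hQ : IsPGroup 5 (Subgroup.closure ({X, Y} : Set Hs)) := by
    refine fun g => ⟨1, Subtype.ext ?_⟩
    obtain ⟨g, hg⟩ := g
    show g ^ (5 ^ 1) = 1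
    rw [pow_one]
    have hcomm : ∀ a ∈ ({X, Y} : Set Hs), ∀ b ∈ ({X, Y} : Set Hs), a * b = b * a := by
      rintro a (rfl | rfl) b (rfl | rfl)
      exacts [rfl, hXY.eq, hXY.eq.symm, rfl]
    induction hg using Subgroup.closure_induction with
    | mem a ha =>
      rcases ha with rfl | rfl
      exacts [hX5, hY5]
    | one => exact one_pow _
    | mul a b ha hb ha5 hb5 =>
      letI := Subgroup.isMulCommutative_closure (G := Hs) hcomm
      have hab : Commute a b := congrArg Subtype.val (mul_comm' (⟨a, ha⟩ : Subgroup.closure ({X, Y} : Set Hs)) ⟨b, hb⟩)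
      rw [hab.mul_pow, ha5, hb5, one_mul]
    | inv a _ ha5 => rw [inv_pow, ha5, inv_one]
  obtain ⟨g, hg⟩ := exists_conj_le (Subgroup.closure ({X, Y} : Set Hs)) (K.subgroupOf Hs) hQ
    (by rw [hidx]; norm_num)
  let K₁ : Subgroup GS := K.map (MulAut.conj (g : GS)⁻¹).toMonoidHom
  have mem1 : ∀ k, k ∈ K₁ ↔ (g : GS) * k * (g : GS)⁻¹ ∈ K := by
    intro k
    rw [Subgroup.mem_map]
    constructor
    · rintro ⟨m, hm, rfl⟩
      simpa [MulAut.conj_apply, mul_assoc] using hm
    · exact fun hk => ⟨_, hk, by simp [MulAut.conj_apply, mul_assoc]⟩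
  have hc1 : Nat.card K₁ = 604800 := by
    rw [show Nat.card K₁ = Nat.card K from Subgroup.card_map_of_injective (MulAut.conj (g : GS)⁻¹).injective, hc]
  have hK1 : K₁ ≤ Hs := fun k hk => by
    have := mul_mem (mul_mem (inv_mem g.2) (hK ((mem1 k).1 hk))) g.2
    simpa [mul_assoc] using this
  have hQ1 : ∀ q ∈ Subgroup.closure ({X, Y} : Set Hs), (q : GS) ∈ K₁ := fun q hq => (mem1 _).2 (hg q hq)
  have hZ : IsPGroup 3 (Subgroup.zpowers Z) := by
    refine IsPGroup.of_card (n := if Z = 1 then 0 else 1) ?_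
    rw [Nat.card_zpowers]
    split_ifs with h1
    · simp [h1]
    · rw [pow_one, orderOf_eq_prime (Subtype.ext hz3) h1]
  have hidx1 : (K₁.subgroupOf Hs).index = 416 := by
    have h := (K₁.subgroupOf Hs).index_mul_card
    rw [Nat.card_congr (Subgroup.subgroupOfEquivOfLe hK1).toEquiv, hc1, Hs_card] at h
    omega
  obtain ⟨t, ht⟩ := exists_conj_le (Subgroup.zpowers Z) (K₁.subgroupOf Hs) hZ (by rw [hidx1]; norm_num)
  have htz : (t : GS) * ez * (t : GS)⁻¹ ∈ K₁ := ht Z (Subgroup.mem_zpowers Z)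
  obtain ⟨e, he, hce⟩ := class_closed t.2 0 (by norm_num)
  rw [el_zero] at hce
  have hzi : ev (zW (e / 2)) ∈ K₁ := by
    rcases e_cases e with he' | he'
    · rw [hce, he', el_even] at htz; exact htz
    · rw [hce, he', el_odd] at htz; exact inv_mem_iff.1 htz
  obtain ⟨h, hh, hhK⟩ := good_all _ (e / 2) (by omega) le_rfl K₁ hK1 hc1
    (hQ1 X (Subgroup.subset_closure (Or.inl rfl))) (hQ1 Y (Subgroup.subset_closure (Or.inr rfl))) hzi
  refine ⟨h * (g : GS)⁻¹, mul_mem hh (inv_mem g.2), fun k => ?_⟩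
  rw [show h * (g : GS)⁻¹ * k * (h * (g : GS)⁻¹)⁻¹ = h * ((g : GS)⁻¹ * k * g) * h⁻¹ by group,
    ← hhK, mem1]
  simp [mul_assoc]

end Cfsg.Agent.SuzRec12
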