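import Cfsg.Agent.SuzRec12.CheckC
import Cfsg.Agent.SuzRec12.Words
import Cfsg.Agent.SuzRec12.Abstract

/-!
A subgroup of index 1365 of the stabiliser of a point is conjugate to the stabiliser of a
second point or to that of a line.
-/

set_option autoImplicit false

namespace Cfsg.Agent.SuzRec12

open Cfsg.Agent.CosetEnum MulAction
open Cfsg.Agent.Recog71.SuzOut (ev)
open Cfsg.Agent.G24J2 (Hs wordsSub conn_of_ok size_of_ok)

/-- The points. -/
abbrev Pnt : Type := Fin Suz.Rep.tbl.n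

/-- The point of the parabolic. -/
noncomputable def qpt : Pnt := ⟨qP, by decide⟩

/-- The points of a list. -/
def lset (L : List ℕ) : Set Pnt := {x : Pnt | (x : ℕ) ∈ L}

/-- The stabiliser of the second point. -/
noncomputable def PK : Subgroup GS := Hs ⊓ stabilizer GS qpt

theorem mem_PK {g : GS} : g ∈ PK ↔ g ∈ Hs ∧ g • qpt = qpt := Iff.rfl

/-- The stabiliser of the fixed line. -/
noncomputable def LK : Subgroup GS where
  carrier := {g | g ∈ Hs ∧ ∀ x : Pnt, g • x ∈ lset line0 ↔ x ∈ lset line0}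
  one_mem' := ⟨one_mem _, fun x => by rw [one_smul]⟩
  mul_mem' := fun {g h} hg hh => ⟨mul_mem hg.1 hh.1, fun x => by rw [mul_smul, hg.2, hh.2]⟩
  inv_mem' := fun {g} hg => ⟨inv_mem hg.1, fun x => by
    conv_rhs => rw [← smul_inv_smul g x, hg.2]⟩

theorem mem_LK {g : GS} : g ∈ LK ↔ g ∈ Hs ∧ ∀ x : Pnt, g • x ∈ lset line0 ↔ x ∈ lset line0 := Iff.rfl

theorem lab_point (i : Pnt) :
    (Suz.Rep.orb.getLab i = 2 ↔ op.getLab i = 5 ∨ op.getLab i = 6) ∧
    (Suz.Rep.orb.getLab i = 1 ↔ op.getLab i = 1 ∨ op.getLab i = 2 ∨ op.getLab i = 3 ∨ op.getLab i = 4) ∧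
    (Recog71.SuzOut.col qP i = 2 ↔ op.getLab i = 4 ∨ op.getLab i = 6) ∧
    (Suz.Rep.orb.getLab i = 2 ↔ ol.getLab i = 4 ∨ ol.getLab i = 5) ∧
    op.getLab i < 7 ∧ ol.getLab i < 6 ∧ (op.getLab i = 1 ↔ (i : ℕ) = qP) := by
  have h := allRange_spec labels_ok i (Nat.zero_le _) (lt_of_lt_of_eq i.2 (Nat.zero_add 1782).symm)
  simp only [labPoint, Bool.and_eq_true, beq_iff_eq] at h
  obtain ⟨⟨⟨⟨⟨⟨⟨h1, h2⟩, h3⟩, h4⟩, h5⟩, h6⟩, h7⟩, -⟩ := h
  refine ⟨?_, ?_, ?_, ?_, Nat.le_of_ble_eq_true h5, Nat.le_of_ble_eq_true h6, ?_⟩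
  · rw [← Nat.beq_eq, h1]; simp [Nat.beq_eq]
  · rw [← Nat.beq_eq, h2]; simp [Nat.beq_eq, or_assoc]
  · rw [← Nat.beq_eq, h3]; simp [Nat.beq_eq]
  · rw [← Nat.beq_eq, h4]; simp [Nat.beq_eq]
  · rw [← Nat.beq_eq, h7]; simp [Nat.beq_eq]

theorem orbit_qpt (x : Pnt) : (∃ g ∈ Hs, g • qpt = x) ↔ Suz.Rep.orb.getLab x = 1 := by
  obtain ⟨r, -, hr⟩ := conn_of_ok orb_ok (c := 1) (by decide +kernel)
  rw [G24J2.Hs_eq, hr x]
  obtain ⟨k, hk, hkq⟩ := (hr qpt).mp (by decide +kernel)
  rw [← hkq]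
  constructor
  · rintro ⟨g, hg, rfl⟩
    exact ⟨g * k, mul_mem hg hk, mul_smul _ _ _⟩
  · rintro ⟨g, hg, rfl⟩
    exact ⟨g * k⁻¹, mul_mem hg (inv_mem hk), by rw [mul_smul, inv_smul_smul]⟩

theorem card_subgroupOf {H K : Subgroup GS} (h : H ≤ K) : Nat.card (H.subgroupOf K) = Nat.card H :=
  Nat.card_congr (Subgroup.subgroupOfEquivOfLe h).toEquiv

theorem PK_card : Nat.card PK = 184320 := by
  haveI := Suz.finite
  have h := (stabilizer Hs qpt).index_mul_card
  rw [index_stabilizer, Hs_card] at h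
  have horb : (orbit Hs qpt).ncard = 1365 := by
    have e : orbit Hs qpt = {i : Pnt | Suz.Rep.orb.getLab i = 1} := by
      ext x
      rw [Set.mem_ofPred_eq, ← orbit_qpt]
      exact ⟨fun ⟨g, hg⟩ => ⟨g, g.2, hg⟩, fun ⟨g, hg, h⟩ => ⟨⟨g, hg⟩, h⟩⟩
    rw [e, size_of_ok orb_ok (c := 1) (by decide +kernel)]
    rfl
  rw [horb, show stabilizer Hs qpt = PK.subgroupOf Hs from Subgroup.ext fun g =>
    ⟨fun h => ⟨g.2, h⟩, fun h => h.2⟩, card_subgroupOf (show PK ≤ Hs from inf_le_left)] at h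
  omega

theorem opWords_le : wordsSub opWords ≤ PK := by
  rw [wordsSub, Subgroup.closure_le]
  rintro _ ⟨W, hW, rfl⟩
  have h := List.all_eq_true.mp op_words W hW
  simp only [Bool.and_eq_true, Nat.beq_eq] at h
  refine ⟨ev_mem_Hs h.1, ?_⟩
  show ev W • qpt = qpt
  rw [smul_eq_iff_ap, ap_ev h.1 qpt.2]
  exact h.2

theorem olWords_le : wordsSub olWords ≤ LK := by
  rw [wordsSub, Subgroup.closure_le]
  rintro _ ⟨W, hW, rfl⟩
  have h := List.all_eq_true.mp ol_words W hW
  simp only [Bool.and_eq_true] at h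
  haveI := Suz.finite
  refine ⟨ev_mem_Hs h.1, ?_⟩
  have h1 : ∀ x : Pnt, x ∈ lset line0 → (ev W)⁻¹ • x ∈ lset line0 := by
    intro x hx
    have h2 := List.all_eq_true.mp h.2 x hx
    simp only [List.any_eq_true, Nat.beq_eq] at h2
    obtain ⟨y, hy, he⟩ := h2
    show (((ev W)⁻¹ • x : Pnt) : ℕ) ∈ line0
    rwa [ev_smul h.1, he]
  intro x
  show ev W • x ∈ lset line0 ↔ _
  constructor
  · intro hx
    have := h1 _ hx
    rwa [inv_smul_smul] at this
  · intro hx
    have hinj : Set.InjOn (fun x : Pnt => (ev W)⁻¹ • x) (lset line0) := (MulAction.injective _).injOn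
    have himg : (fun x : Pnt => (ev W)⁻¹ • x) '' lset line0 = lset line0 := by
      refine Set.eq_of_subset_of_ncard_le (fun y ⟨z, hz, hzy⟩ => hzy ▸ h1 z hz) ?_ (Set.toFinite _)
      rw [hinj.ncard_image]
    rw [← himg] at hx
    obtain ⟨z, hz, rfl⟩ := hx
    show ev W • (ev W)⁻¹ • z ∈ _
    rwa [smul_inv_smul]

theorem card_ge_of_orbits {W W1 : Subgroup GS} (hle : W1 ≤ W) {x y : Pnt} (hfix : ∀ g ∈ W1, g • x = x)
    {n m : ℕ} (hn : n ≤ (orbit W x).ncard) (hm : m ≤ (orbit W1 y).ncard) : n * m ≤ Nat.card W := by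
  haveI := Suz.finite
  have h1 := (stabilizer W x).index_mul_card
  rw [index_stabilizer] at h1
  have h2 := (stabilizer W1 y).index_mul_card
  rw [index_stabilizer] at h2
  have h3 : m ≤ Nat.card W1 := by
    rw [← h2]
    exact le_trans hm (Nat.le_mul_of_pos_right _ Nat.card_pos)
  let f : W1 → stabilizer W x := fun g => ⟨⟨(g : GS), hle g.2⟩, hfix g g.2⟩
  have h4 : Nat.card W1 ≤ Nat.card (stabilizer W x) :=
    Nat.card_le_card_of_injective f fun a b h =>
      Subtype.ext (congrArg (fun z : stabilizer W x => ((z : W) : GS)) h)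
  rw [← h1]
  exact Nat.mul_le_mul hn (h3.trans h4)

theorem words_orbit {O : OrbitData} {ws : List (List ℕ)} {roots sizes : List ℕ}
    (h : G24J2.okData O ws roots sizes = true) (x : Pnt) (hx : O.getLab x < roots.length) :
    sizes.getD (O.getLab x) 0 ≤ (orbit (wordsSub ws) x).ncard := by
  obtain ⟨r, -, hr⟩ := conn_of_ok h hx
  rw [← size_of_ok h hx]
  refine Set.ncard_le_ncard (fun y hy => ?_) (Set.toFinite _)
  obtain ⟨k, hk, hkx⟩ := (hr x).mp rfl
  obtain ⟨j, hj, hjy⟩ := (hr y).mp hy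
  exact ⟨⟨j * k⁻¹, mul_mem hj (inv_mem hk)⟩,
    show (j * k⁻¹) • x = y by rw [mul_smul, ← hkx, inv_smul_smul, hjy]⟩

theorem PK_eq : PK = wordsSub opWords := by
  haveI := Suz.finite
  symm
  refine Subgroup.eq_of_le_of_card_ge opWords_le ?_
  rw [PK_card]
  have hle : wordsSub o1Words ≤ wordsSub opWords := by
    rw [wordsSub, Subgroup.closure_le]
    rintro _ ⟨W, hW, rfl⟩
    rw [o1_words] at hW
    obtain ⟨w, -, rfl⟩ := List.mem_map.1 hW
    exact ev_expand opWords (Subgroup.closure {g | ∃ W ∈ opWords, evalWord Suz.pres.val W = g}) (fun g hg => Subgroup.subset_closure ⟨g, hg, rfl⟩) w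
  let x : Pnt := ⟨2, by decide⟩
  let y : Pnt := ⟨yP, by decide⟩
  have hfix : ∀ g ∈ wordsSub o1Words, g • x = x := by
    have : wordsSub o1Words ≤ stabilizer GS x := by
      rw [wordsSub, Subgroup.closure_le]
      rintro _ ⟨W, hW, rfl⟩
      have h := List.all_eq_true.mp o1_fix W hW
      simp only [Bool.and_eq_true, Nat.beq_eq] at h
      show ev W • x = x
      rw [smul_eq_iff_ap, ap_ev h.1 x.2]
      exact h.2
    exact fun g hg => this hg
  have h1 : 1024 ≤ (orbit (wordsSub opWords) x).ncard := by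
    refine le_trans (le_of_eq ?_) (words_orbit op_ok x (by decide +kernel))
    decide +kernel
  have h2 : 180 ≤ (orbit (wordsSub o1Words) y).ncard := by
    have hlt : o1.getLab yP < o1Roots.length := Nat.le_of_ble_eq_true o1_size.2
    have h := allRange_spec o1_size.1 (o1.getLab yP) (Nat.zero_le _) (by omega)
    rw [Nat.beq_refl, Bool.not_true, Bool.false_or] at h
    exact le_trans (le_of_eq (Nat.eq_of_beq_eq_true h).symm) (words_orbit o1_ok y hlt)
  exact le_trans (by norm_num) (card_ge_of_orbits hle hfix h1 h2)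

theorem label_PK_aux {k : GS} (hk : k ∈ wordsSub opWords) (x : Pnt) : op.getLab (k • x : Pnt) = op.getLab x := by
  obtain ⟨r, -, hr⟩ := conn_of_ok op_ok (c := op.getLab x)
    (lt_of_lt_of_eq (lab_point x).2.2.2.2.1 (by decide : 7 = opRoots.length))
  obtain ⟨j, hj, hjx⟩ := (hr x).mp rfl
  exact (hr _).mpr ⟨k * j, mul_mem hk hj, by rw [mul_smul, hjx]⟩

theorem label_PK {c : ℕ} (x : Pnt) (hx : op.getLab x = c) : ∀ g ∈ PK, op.getLab (g • x : Pnt) = c :=
  fun g hg => (label_PK_aux (PK_eq ▸ hg) x).trans hx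

theorem line_spec {j : ℕ} (hj : j < 5) :
    okH (linesP.getD j ([], [])).2 = true ∧ (linesP.getD j ([], [])).1.length = 5 ∧
    qpt ∈ lset (linesP.getD j ([], [])).1 ∧ ev (linesP.getD j ([], [])).2 ∈ PK ∧
    (∀ x : Pnt, (ev (linesP.getD j ([], [])).2)⁻¹ • x ∈ lset line0 ↔ x ∈ lset (linesP.getD j ([], [])).1) := by
  have hm : linesP.getD j ([], []) ∈ linesP := by
    rw [List.getD_eq_getElem _ _ (nb_len.2.1.symm ▸ hj : j < linesP.length)]
    exact List.getElem_mem _
  generalize linesP.getD j ([], []) = p at hm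
  have h := List.all_eq_true.mp lines_ok p hm
  simp only [linePoint, Bool.and_eq_true, List.all_eq_true, List.any_eq_true, Nat.beq_eq] at h
  obtain ⟨⟨⟨⟨⟨⟨hok, hlen⟩, hlt⟩, y0, hy0, hy0'⟩, hfix⟩, hto⟩, hfrom⟩ := h
  refine ⟨hok, hlen, ?_, ⟨ev_mem_Hs hok, ?_⟩, fun x => ?_⟩
  · show qP ∈ p.1
    rwa [hy0']
  · show ev p.2 • qpt = qpt
    rw [smul_eq_iff_ap, ap_ev hok qpt.2]
    exact hfix
  · show (((ev p.2)⁻¹ • x : Pnt) : ℕ) ∈ line0 ↔ (x : ℕ) ∈ p.1
    rw [ev_smul hok]
    constructor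
    · intro hx
      obtain ⟨y, hy, hyx⟩ := hfrom _ hx
      let yp : Pnt := ⟨y, show y < 1782 from Nat.le_of_ble_eq_true (hlt y hy)⟩
      have : (ev p.2)⁻¹ • yp = (ev p.2)⁻¹ • x := Fin.ext (by rw [ev_smul hok, ev_smul hok]; exact hyx)
      rw [← congrArg Fin.val (MulAction.injective _ this)]
      exact hy
    · intro hx
      obtain ⟨y, hy, hyx⟩ := hto _ hx
      exact hyx ▸ hy

theorem lset_ncard {L : List ℕ} : (lset L).ncard ≤ L.length := by
  refine le_trans (Set.ncard_le_ncard_of_injOn (t := (L.toFinset : Set ℕ)) (fun x : Pnt => (x : ℕ))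
    (fun x hx => List.mem_toFinset.2 hx) (fun a _ b _ h => Fin.ext h) (Finset.finite_toSet _)) ?_
  rw [Set.ncard_coe_finset]
  exact List.toFinset_card_le L

theorem LK_card : Nat.card LK ≤ 184320 := by
  haveI := Suz.finite
  -- the orbit of the point lies in the line
  have h1 : (orbit LK qpt).ncard ≤ 5 := by
    refine le_trans (Set.ncard_le_ncard (t := lset line0) ?_ (Set.toFinite _)) (nb_len.2.2 ▸ lset_ncard)
    rintro _ ⟨g, rfl⟩
    exact ((mem_LK.1 g.2).2 qpt).2 (show qP ∈ line0 by decide +kernel)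
  have h2 := (stabilizer LK qpt).index_mul_card
  rw [index_stabilizer] at h2
  -- five distinct lines in one orbit of the stabiliser of the point
  have h3 : 5 * Nat.card (stabilizer LK qpt) ≤ Nat.card PK := by
    let f : Fin 5 × stabilizer LK qpt → PK := fun x =>
      ⟨ev (linesP.getD x.1 ([], [])).2 * ((x.2 : LK) : GS),
        mul_mem (line_spec x.1.2).2.2.2.1 ⟨(mem_LK.1 (x.2 : LK).2).1, x.2.2⟩⟩
    have hf : Function.Injective f := by
      rintro ⟨i, s⟩ ⟨j, t⟩ he
      have he' : ev (linesP.getD i ([], [])).2 * ((s : LK) : GS) = ev (linesP.getD j ([], [])).2 * ((t : LK) : GS) :=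
        congrArg Subtype.val he
      have hij : i = j := by
        by_contra hne
        have h := allRange_spec (allRange_spec lines_distinct i (Nat.zero_le _) (by omega)) j (Nat.zero_le _) (by omega)
        rw [Bool.or_eq_true, List.any_eq_true] at h
        rcases h with h | ⟨y, hy, hy'⟩
        · exact hne (Fin.ext (Nat.eq_of_beq_eq_true h))
        have hmem : (linesP.getD i ([], [])).1.all (fun x => Nat.blt x 1782) = true := by
          have := List.all_eq_true.mp lines_ok _ (show linesP.getD i ([], []) ∈ linesP by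
            rw [List.getD_eq_getElem _ _ (nb_len.2.1.symm ▸ i.2 : (i : ℕ) < linesP.length)]
            exact List.getElem_mem _)
          simp only [linePoint, Bool.and_eq_true] at this
          exact this.1.1.1.1.2
        let yp : Pnt := ⟨y, show y < 1782 from Nat.le_of_ble_eq_true (List.all_eq_true.mp hmem y hy)⟩
        have h4 : (ev (linesP.getD i ([], [])).2)⁻¹ • yp ∈ lset line0 := ((line_spec i.2).2.2.2.2 yp).2 hy
        have h5 : ((t : LK) : GS)⁻¹ • (ev (linesP.getD j ([], [])).2)⁻¹ • yp ∈ lset line0 := by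
          rw [← mul_smul, ← mul_inv_rev, ← he', mul_inv_rev, mul_smul]
          exact ((mem_LK.1 (inv_mem (s : LK).2)).2 _).2 h4
        have h6 := ((line_spec j.2).2.2.2.2 yp).1 (((mem_LK.1 (inv_mem (t : LK).2)).2 _).1 h5)
        simp only [Bool.not_eq_true', List.any_eq_false] at hy'
        exact absurd (Nat.beq_refl y) (by simpa using hy' y h6)
      subst hij
      have : (s : LK) = (t : LK) := Subtype.ext (mul_left_cancel he')
      rw [Subtype.ext this]
    have := Nat.card_le_card_of_injective f hf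
    rwa [Nat.card_prod, Nat.card_fin] at this
  rw [PK_card] at h3
  calc Nat.card LK = (orbit LK qpt).ncard * Nat.card (stabilizer LK qpt) := h2.symm
    _ ≤ 5 * Nat.card (stabilizer LK qpt) := Nat.mul_le_mul h1 le_rfl
    _ ≤ 184320 := h3

theorem gcd_bound {a b : ℕ} (hab : a * b = 4096) {s : ℕ} (hs : b ∣ s) {m : ℕ}
    (hg : Nat.gcd s 4096 ≤ m) : 4096 ≤ a * m := by
  have : b ∣ Nat.gcd s 4096 := Nat.dvd_gcd hs (hab ▸ dvd_mul_left b a)
  have h2 : b ≤ m := le_trans (Nat.le_of_dvd (Nat.gcd_pos_of_pos_right _ (by norm_num)) this) hg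
  exact hab ▸ Nat.mul_le_mul le_rfl h2

/-- A bound on the orbit of a Sylow subgroup of the stabiliser of the point. -/
theorem sylow_orbit {S : Subgroup GS} (hS : S ≤ PK) (hc : Nat.card S = 4096) (x : Pnt) {c : ℕ} (hc7 : c < 7)
    (hx : op.getLab x = c) {s m : ℕ} (hs : opSizes.getD c 0 * s = 184320)
    (hg : Nat.gcd s 4096 ≤ m) : 4096 ≤ (orbit S x).ncard * m := by
  haveI := Suz.finite
  have h1 := (stabilizer S x).index_mul_card
  rw [index_stabilizer, hc] at h1
  refine gcd_bound h1 ?_ hg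
  -- the stabiliser of x in PK has order dividing s
  have h2 := (stabilizer PK x).index_mul_card
  rw [index_stabilizer, PK_card] at h2
  have hsub : {i : Pnt | op.getLab i = c} ⊆ orbit PK x := by
    intro y hy
    obtain ⟨r, -, hr⟩ := conn_of_ok op_ok (c := c) (by simpa [opRoots] using hc7)
    obtain ⟨k, hk, hkx⟩ := (hr x).mp hx
    obtain ⟨j, hj, hjy⟩ := (hr y).mp hy
    exact ⟨⟨j * k⁻¹, mul_mem (opWords_le hj) (inv_mem (opWords_le hk))⟩,
      show (j * k⁻¹) • x = y by rw [mul_smul, ← hkx, inv_smul_smul, hjy]⟩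
  have h3 := Set.ncard_le_ncard hsub (Set.toFinite _)
  rw [size_of_ok op_ok (by simpa [opRoots] using hc7)] at h3
  have hdvd : Nat.card (stabilizer S x) ∣ Nat.card (stabilizer PK x) := by
    let f : stabilizer S x →* stabilizer PK x :=
      { toFun := fun g => ⟨⟨((g : S) : GS), hS (g : S).2⟩, g.2⟩
        map_one' := rfl
        map_mul' := fun _ _ => rfl }
    exact Subgroup.card_dvd_of_injective f fun a b h => Subtype.ext (Subtype.ext (congrArg (fun z : stabilizer PK x => ((z : PK) : GS)) h))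
  refine hdvd.trans ?_
  -- the orbit has exactly that size
  have heq : (orbit PK x).ncard = opSizes.getD c 0 := by
    refine le_antisymm ?_ h3
    obtain ⟨hs0, hspos⟩ : opSizes.getD c 0 ≠ 0 ∧ 0 < s := by
      constructor
      · intro h0; rw [h0, Nat.zero_mul] at hs; omega
      · by_contra h0
        rw [show s = 0 by omega, Nat.mul_zero] at hs
        omega
    have hinv : ∀ g ∈ PK, op.getLab (g • x : Pnt) = c := label_PK x hx
    refine le_trans (Set.ncard_le_ncard (t := {i : Pnt | op.getLab i = c}) ?_ (Set.toFinite _))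
      (le_of_eq (size_of_ok op_ok (by simpa [opRoots] using hc7)))
    rintro _ ⟨g, rfl⟩
    exact hinv g g.2
  rw [heq, ← hs] at h2
  have hne : opSizes.getD c 0 ≠ 0 := fun h0 => by rw [h0, Nat.zero_mul] at hs; omega
  exact dvd_of_eq (Nat.eq_of_mul_eq_mul_left (Nat.pos_of_ne_zero hne) h2)

end Cfsg.Agent.SuzRec12
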