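import Cfsg.Agent.SuzRec12.Action

/-!
Equivariant bijections between orbits with equal stabilisers.
-/

set_option autoImplicit false

namespace Cfsg.Agent.SuzRec12

open Cfsg.Agent.CosetEnum
open Cfsg.Agent.G24J2 (Hs)

namespace Setting

variable {Ω : Type*} [Finite Ω] {G : Subgroup (Equiv.Perm Ω)} {a b c : Ω} (S : Setting G a b c)

/-- The stabiliser of the point `base` is the one of `w0`. -/
def SameStab (base : Pnt) (w0 : Ω) : Prop := ∀ g : Hs, (g : GS) • base = base ↔ S.ρ g w0 = w0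

open Classical in
/-- The map carrying the orbit of `base` to that of `w0`. -/
noncomputable def theta (base : Pnt) (w0 : Ω) (p : Pnt) : Ω :=
  if h : ∃ g : Hs, (g : GS) • base = p then S.ρ h.choose w0 else a

theorem theta_base {base : Pnt} {w0 : Ω} (hs : S.SameStab base w0) (g : Hs) :
    S.theta base w0 ((g : GS) • base) = S.ρ g w0 := by
  have h : ∃ k : Hs, (k : GS) • base = (g : GS) • base := ⟨g, rfl⟩
  rw [theta, dif_pos h]
  have hk := h.choose_spec
  set k := h.choose
  have h1 : ((g⁻¹ * k : Hs) : GS) • base = base := by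
    show ((g : GS)⁻¹ * (k : GS)) • base = base
    rw [mul_smul, hk, inv_smul_smul]
  have h2 := (hs _).1 h1
  rw [rho_mul] at h2
  have h3 := congrArg (S.ρ g) h2
  rwa [← rho_mul, mul_inv_cancel, rho_one] at h3

theorem theta_self {base : Pnt} {w0 : Ω} (hs : S.SameStab base w0) : S.theta base w0 base = w0 := by
  have := S.theta_base hs 1
  rw [OneMemClass.coe_one, one_smul, rho_one] at this
  exact this

theorem theta_smul {base : Pnt} {w0 : Ω} (hs : S.SameStab base w0) (g : Hs) {p : Pnt}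
    (hp : ∃ k : Hs, (k : GS) • base = p) :
    S.theta base w0 ((g : GS) • p) = S.ρ g (S.theta base w0 p) := by
  obtain ⟨k, rfl⟩ := hp
  rw [S.theta_base hs, ← mul_smul, ← Subgroup.coe_mul, S.theta_base hs, rho_mul]

theorem theta_inj {base : Pnt} {w0 : Ω} (hs : S.SameStab base w0) {p q : Pnt}
    (hp : ∃ k : Hs, (k : GS) • base = p) (hq : ∃ k : Hs, (k : GS) • base = q)
    (h : S.theta base w0 p = S.theta base w0 q) : p = q := by
  obtain ⟨k, rfl⟩ := hp
  obtain ⟨j, rfl⟩ := hq
  rw [S.theta_base hs, S.theta_base hs] at h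
  have h1 := congrArg (S.ρ j⁻¹) h
  rw [rho_inv, ← rho_mul] at h1
  have h2 := (hs _).2 h1
  rw [Subgroup.coe_mul, mul_smul] at h2
  have h3 := congrArg (fun z => ((j : Hs) : GS) • z) h2
  simpa [smul_inv_smul] using h3

/-- The stabiliser of a point, as a subgroup of the presented group. -/
def stabK (w : Ω) : Subgroup GS :=
  ((MulAction.stabilizer (Equiv.Perm Ω) w).comap S.ρ).map (Hs : Subgroup GS).subtype

theorem stabK_le (w : Ω) : S.stabK w ≤ Hs := by rintro _ ⟨g, -, rfl⟩; exact g.2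

theorem mem_stabK {w : Ω} (g : Hs) : (g : GS) ∈ S.stabK w ↔ S.ρ g w = w := by
  constructor
  · rintro ⟨k, hk, hke⟩
    have : k = g := Subtype.ext hke
    subst this
    exact hk
  · exact fun h => ⟨g, h, rfl⟩

theorem stabK_card (w : Ω) :
    Nat.card (S.stabK w) * {v | ∃ h : Hs, S.ρ h w = v}.ncard = 251596800 := by
  letI : MulAction Hs Ω := MulAction.compHom Ω S.ρ
  rw [show Nat.card (S.stabK w) = Nat.card (MulAction.stabilizer Hs w) from
    Subgroup.card_map_of_injective (Subgroup.subtype_injective _), mul_comm]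
  have := (MulAction.stabilizer Hs w).index_mul_card
  rw [MulAction.index_stabilizer, Hs_card] at this
  exact this

theorem point_of_conj (w : Ω) {M : Subgroup GS}
    (hconj : ∃ h ∈ Hs, ∀ k, k ∈ S.stabK w ↔ h * k * h⁻¹ ∈ M) :
    ∃ h : Hs, ∀ g : Hs, (g : GS) ∈ M ↔ S.ρ g (S.ρ h w) = S.ρ h w := by
  obtain ⟨h, hh, hhK⟩ := hconj
  refine ⟨⟨h, hh⟩, fun g => ?_⟩
  have e : h * (h⁻¹ * (g : GS) * h) * h⁻¹ = g := by group
  rw [← e, ← hhK, show h⁻¹ * (g : GS) * h = (((⟨h, hh⟩ : Hs)⁻¹ * g * ⟨h, hh⟩ : Hs) : GS) from rfl,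
    mem_stabK, rho_mul, rho_mul]
  constructor
  · intro hg
    have h3 := congrArg (S.ρ ⟨h, hh⟩) hg
    rwa [← rho_mul, mul_inv_cancel, rho_one] at h3
  · intro hg
    rw [hg, rho_inv]

end Setting

end Cfsg.Agent.SuzRec12
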